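import Cfsg.Agent.H64.BorelTits
import Cfsg.Agent.H38.Gen2

/-! Subgroups of `U` normalized by `B`. -/

namespace Cfsg.Agent.H64
open Cfsg.Agent.H38

variable {ι R : Type} [Fintype ι] [DecidableEq ι]
variable {P : RS ι R} {F : Type*} [Field F] {G : Type*} [Group G]

theorem not_comb_self (r k : R) : ¬ P.Comb r r k := by
  rintro h
  obtain ⟨w, hw, i, e⟩ := exists_W_sp P r
  obtain ⟨a, b, ha, hb, h⟩ := h.map hw
  rw [e, P.cf_sp] at h
  have h1 := congrFun h i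
  rcases P.reduced (w k) i (fun j hj => by simp [h, hj]) with h2 | h2
  · simp [h2, P.cf_sp] at h1; omega
  · simp [h2, P.cf_neg, P.cf_sp] at h1; omega

variable (P) in
/-- positive roots of height greater than `m` -/
def hi (m : ℤ) : Set R := {k | P.Pos k ∧ m < P.ht k}

theorem ht_comb {r s k : R} (hr : P.Pos r) (hs : P.Pos s) (h : P.Comb r s k) :
    P.ht r + P.ht s ≤ P.ht k := P.cl_pos.lt_of_comb hr hs h

theorem comb_mem_hi {r s k : R} {m : ℤ} (hr : P.Pos r) (hs : P.Pos s) (h : P.Comb r s k)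
    (hm : m < P.ht r + P.ht s) : k ∈ hi P m := ⟨h.pos hr hs, hm.trans_le (ht_comb hr hs h)⟩

theorem hi_stable (m : ℤ) : ∀ r ∈ {r | P.Pos r}, ∀ s ∈ hi P m, s ≠ P.neg r ∧
    ∀ k, P.Comb r s k → k ∈ hi P m := fun r hr s hs =>
  ⟨P.ne_neg_of_pos hr hs.1, fun _ hk => comb_mem_hi hr hs.1 hk (by
    have := P.ht_pos hr; have := hs.2; omega)⟩

theorem comm_mem_of_gen (X : RG0 P F G) {S : Set R} {K : Subgroup G} {g : G}
    (hK : ∀ r ∈ S, ∀ t, ∀ k ∈ K, (X.x r t)⁻¹ * k * X.x r t ∈ K)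
    (h : ∀ r ∈ S, ∀ t, (X.x r t)⁻¹ * g⁻¹ * X.x r t * g ∈ K) {y : G} (hy : y ∈ X.US S) :
    y⁻¹ * g⁻¹ * y * g ∈ K := by
  induction hy using X.US_induction with
  | h1 => simp
  | hm y hy r hr t ih =>
    have : (y * X.x r t)⁻¹ * g⁻¹ * (y * X.x r t) * g =
      (X.x r t)⁻¹ * (y⁻¹ * g⁻¹ * y * g) * X.x r t * ((X.x r t)⁻¹ * g⁻¹ * X.x r t * g) := by group
    rw [this]
    exact mul_mem (hK r hr t _ ih) (h r hr t)

/-- an element of the torus centralizes `X_s` but not `X_r` -/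
def SepH (X : RG P F G) (s r : R) : Prop := ∃ h ∈ X.H, ∃ c : F, c ≠ 1 ∧
  (∀ t, h * X.x s t * h⁻¹ = X.x s t) ∧ ∀ t, h * X.x r t * h⁻¹ = X.x r (c * t)

/-- `Y` covers the root subgroup `X_r` modulo roots of greater height -/
def Cov (X : RG P F G) (Y : Subgroup G) (r : R) : Prop :=
  ∀ t, ∃ y ∈ X.US (hi P (P.ht r)), X.x r t * y ∈ Y

theorem exists_H_sq (X : RG P F G) (r : R) {s : F} (hs : s ≠ 0) :
    ∃ h ∈ X.H, ∀ t, h * X.x r t * h⁻¹ = X.x r (s ^ 2 * t) := by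
  obtain ⟨w, hw, i, e⟩ := exists_W_sp P r
  obtain ⟨n, hn⟩ := X.exists_rep (inv_mem hw)
  have h1 : X.Chr (X.h (P.sp i) s) fun k => s ^ P.A i k := fun k t => X.h_conj i hs k t
  refine ⟨_, hn.conj_mem_H (X.h_mem_H (P.sp i) hs), fun t => ?_⟩
  have := h1.conj hn.acts r t
  simp only [inv_inv, e, P.A_sp_self] at this
  exact_mod_cast this

variable {X : RG P F G} {Y : Subgroup G} (hY : ∀ b ∈ X.B, ∀ y ∈ Y, b * y * b⁻¹ ∈ Y)
include hY

theorem cov_of_one [Finite F] {r : R} (hr : P.Pos r) {t : F} (ht : t ≠ 0) {y : G}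
    (hy : y ∈ X.US (hi P (P.ht r))) (h : X.x r t * y ∈ Y) : Cov X Y r := by
  let A : AddSubgroup F :=
    { carrier := {t | ∃ y ∈ X.US (hi P (P.ht r)), X.x r t * y ∈ Y}
      zero_mem' := ⟨1, one_mem _, by simp [X.x_zero]⟩
      add_mem' := by
        rintro a b ⟨y, hy, h⟩ ⟨y', hy', h'⟩
        refine ⟨(X.x r b)⁻¹ * y * (X.x r b)⁻¹⁻¹ * y', mul_mem (X.US_conj_mem (hi_stable _)
          (inv_mem (X.x_mem_U hr b)) hy) hy', ?_⟩
        have := mul_mem h h'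
        rw [X.add]
        convert this using 1; group
      neg_mem' := by
        rintro a ⟨y, hy, h⟩
        refine ⟨X.x r a * y⁻¹ * (X.x r a)⁻¹, X.US_conj_mem (hi_stable _) (X.x_mem_U hr a)
          (inv_mem hy), ?_⟩
        have := inv_mem h
        rw [X.x_neg]
        convert this using 1; group }
  refine fun u => addSubgroup_eq_top_of_sq (A := A) ?_ (v := t) ⟨y, hy, h⟩ ht u
  rintro s hs a ⟨y, hy, h⟩
  obtain ⟨g, hg, e⟩ := exists_H_sq X r hs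
  refine ⟨g * y * g⁻¹, X.H_conj_mem_US hg hy, ?_⟩
  have := hY g (X.H_le_B hg) _ h
  rw [← e]
  convert this using 1; group

theorem cov_of_iso [Finite F] [Finite R] {r : R} (hr : P.Pos r) {A : Set R}
    (hT : hi P (P.ht r) ⊆ A) (hA : ∀ s ∈ A, P.Pos s)
    (hab : ∀ a ∈ insert r A, ∀ b ∈ insert r A, ∀ k, P.Comb a b k → k ∈ hi P (P.ht r))
    (hsep : ∀ s ∈ A, P.ht s ≤ P.ht r → SepH X s r)
    (h : ∃ t, t ≠ 0 ∧ ∃ y ∈ X.US A, X.x r t * y ∈ Y) : Cov X Y r := by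
  induction hn : (A \ hi P (P.ht r)).ncard generalizing A with
  | zero =>
    obtain ⟨t, ht, y, hy, h⟩ := h
    rw [Set.ncard_eq_zero, Set.sdiff_eq_empty] at hn
    exact cov_of_one hY hr ht (X.US_mono hn hy) h
  | succ n ih =>
    obtain ⟨s, hs, hs'⟩ := Set.nonempty_of_ncard_ne_zero (s := A \ hi P (P.ht r)) (by omega)
    have hT' : hi P (P.ht r) ⊆ A \ {s} := fun k hk => ⟨hT hk, by rintro rfl; exact hs' hk⟩
    refine ih (A := A \ {s}) hT' (fun k hk => hA k hk.1)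
      (fun a ha b hb => hab a (Set.insert_subset_insert Set.sdiff_subset ha) b
        (Set.insert_subset_insert Set.sdiff_subset hb)) (fun k hk => hsep k hk.1) ?_ ?_
    · obtain ⟨t, ht, y, hy, h⟩ := h
      obtain ⟨g, hg, c, hc, e1, e2⟩ := hsep s hs (not_lt.1 fun h => hs' ⟨hA s hs, h⟩)
      have hcl : P.Cl (htL ι) A := ⟨fun a ha b hb k hk =>
        hT (hab a (Or.inr ha) b (Or.inr hb) k hk), fun a ha => P.ht_pos (hA a ha)⟩
      obtain ⟨a, y', hy', rfl⟩ := exists_x_mul X.toRG0 hcl hs hy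
      have hpos : ∀ b ∈ insert r A, P.Pos b := by
        rintro b (rfl | hb); exacts [hr, hA b hb]
      refine ⟨-t + c * t, fun e => ht ?_, (X.x r (-t + c * t))⁻¹ * y'⁻¹ * (X.x r (-t + c * t))⁻¹⁻¹ *
        ((X.x r (-t + c * t))⁻¹ * (X.x s a)⁻¹ * X.x r (-t + c * t) * X.x s a) * (g * y' * g⁻¹),
        mul_mem (mul_mem ?_ ?_) (X.H_conj_mem_US hg hy'), ?_⟩
      · have : (c - 1) * t = 0 := by linear_combination e
        exact (mul_eq_zero.1 this).resolve_left (sub_ne_zero.2 hc)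
      · refine X.US_conj_mem (S := {r}) ?_ (inv_mem (X.x_mem (Set.mem_singleton r) _)) (inv_mem hy')
        rintro a rfl b hb
        exact ⟨P.ne_neg_of_pos hr (hA b hb.1),
          fun k hk => hT' (hab a (Or.inl rfl) b (Or.inr hb.1) k hk)⟩
      · exact X.comm_mem (P.ne_neg_of_pos (hA s hs) hr)
          (fun k hk => hT' (hab s (Or.inr hs) r (Or.inl rfl) k hk)) _ _
      · have := mul_mem (inv_mem h) (hY g (X.H_le_B hg) _ h)
        convert this using 1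
        rw [X.add, X.x_neg, ← e2]
        nth_rewrite 2 [← e1 a]
        group
    · rw [Set.sdiff_sdiff_comm, Set.ncard_sdiff_singleton_of_mem (Set.mem_sdiff_of_mem hs hs'), hn]; rfl

theorem comm_step {r r' s : R} (hr : P.Pos r) (hs : P.Pos s) (hc : Cov X Y r') {A : Set R}
    (hA : ∀ s ∈ A, P.Pos s)
    (hab : ∀ a ∈ hi P (P.ht r'), ∀ b ∈ insert r A, ∀ k, P.Comb a b k → k ∈ A)
    (hy : ∀ a ∈ hi P (P.ht r'), ∀ t, (X.x a t)⁻¹ * (X.x s 1)⁻¹ * X.x a t * X.x s 1 ∈ X.US A)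
    (hw : ∃ c, c ≠ 0 ∧ ∃ y ∈ X.US A,
      (X.x r' 1)⁻¹ * (X.x s 1)⁻¹ * X.x r' 1 * X.x s 1 = X.x r c * y) :
    ∃ t, t ≠ 0 ∧ ∃ y ∈ X.US A, X.x r t * y ∈ Y := by
  obtain ⟨c, hc0, z, hz, e⟩ := hw
  obtain ⟨y, hyU, h⟩ := hc 1
  have hst : ∀ a ∈ hi P (P.ht r'), ∀ b ∈ A, b ≠ P.neg a ∧ ∀ k, P.Comb a b k → k ∈ A :=
    fun a ha b hb => ⟨P.ne_neg_of_pos ha.1 (hA b hb), hab a ha b (Or.inr hb)⟩
  have hK : ∀ a ∈ hi P (P.ht r'), ∀ t, ∀ k ∈ X.US A, (X.x a t)⁻¹ * k * X.x a t ∈ X.US A :=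
    fun a ha t k hk => by simpa using X.US_conj_mem hst (inv_mem (X.x_mem ha t)) hk
  have h1 := comm_mem_of_gen X.toRG0 hK hy hyU
  have h2 := comm_mem_of_gen X.toRG0 (g := X.x r c) hK (fun a ha t =>
    X.comm_mem (P.ne_neg_of_pos hr ha.1) (fun k hk => hab a ha r (Or.inl rfl) k hk.symm) _ _) hyU
  refine ⟨c, hc0, (y⁻¹ * (X.x r c)⁻¹ * y * X.x r c)⁻¹ * (y⁻¹ * z * y⁻¹⁻¹) *
    (y⁻¹ * (X.x s 1)⁻¹ * y * X.x s 1),
    mul_mem (mul_mem (inv_mem h2) (X.US_conj_mem hst (inv_mem hyU) hz)) h1, ?_⟩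
  have := mul_mem (inv_mem h) (hY _ (inv_mem (X.x_mem_B hs 1)) _ h)
  convert this using 1
  have e' : z = (X.x r c)⁻¹ * ((X.x r' 1)⁻¹ * (X.x s 1)⁻¹ * X.x r' 1 * X.x s 1) := by rw [e]; group
  rw [e']; group

theorem cov_step [Finite F] {r r' s : R} (hr : P.Pos r) (hs : P.Pos s) (hc : Cov X Y r')
    (hht : P.ht r = P.ht r' + P.ht s) (hw : ∃ c, c ≠ 0 ∧ ∃ y ∈ X.US (hi P (P.ht r)),
      (X.x r' 1)⁻¹ * (X.x s 1)⁻¹ * X.x r' 1 * X.x s 1 = X.x r c * y) :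
    Cov X Y r := by
  obtain ⟨t, ht, y, hy, h⟩ := comm_step hY hr hs hc (A := hi P (P.ht r)) (fun s hs => hs.1)
    (fun a ha b hb k hk => by
      have := P.ht_pos ha.1
      rcases hb with rfl | hb
      · exact comb_mem_hi ha.1 hr hk (by omega)
      · exact comb_mem_hi ha.1 hb.1 hk (by have := hb.2; omega))
    (fun a ha t => X.comm_mem (P.ne_neg_of_pos hs ha.1)
      (fun k hk => comb_mem_hi hs ha.1 hk (by have := ha.2; omega)) _ _) hw
  exact cov_of_one hY hr ht hy h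

theorem cov_sp [Finite F] [Finite R] (hsep : ∀ i j, i ≠ j → SepH X (P.sp i) (P.sp j)) {i : ι}
    {y : G} (hy : y ∈ Y) (hU : y ∈ X.U) (h : y ∉ X.US ({r | P.Pos r} \ {P.sp i})) :
    Cov X Y (P.sp i) := by
  refine cov_of_iso hY (P.pos_sp i) (A := {r | P.Pos r} \ {P.sp i})
    (fun k hk => ⟨hk.1, by rintro rfl; exact lt_irrefl _ hk.2⟩) (fun s hs => hs.1) ?_ ?_ ?_
  · have : ∀ a ∈ insert (P.sp i) ({r | P.Pos r} \ {P.sp i}), P.Pos a := by
      rintro a (rfl | ha); exacts [P.pos_sp i, ha.1]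
    intro a ha b hb k hk
    have h1 := P.ht_pos (this a ha)
    have h2 := P.ht_pos (this b hb)
    exact comb_mem_hi (this a ha) (this b hb) hk (by rw [P.ht_sp]; omega)
  · intro s hs hht
    rcases P.exists_descent hs.1 with ⟨j, rfl⟩ | ⟨j, -, h1, h2⟩
    · exact hsep j i fun e => hs.2 (by rw [e]; rfl)
    · have := P.ht_pos h1; rw [P.ht_sp] at hht; omega
  · obtain ⟨t, z, hz, rfl⟩ := exists_x_mul X.toRG0 P.cl_pos (P.pos_sp i) hU
    refine ⟨t, ?_, z, hz, hy⟩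
    rintro rfl
    rw [X.x_zero, one_mul] at h
    exact h hz

omit hY in
theorem UJ_le_of_cov [Fintype R] (hX : X.Faithful) {J : Set ι} (hle : Y ≤ X.UJ J)
    (h : ∀ r, P.Pos r → ¬ P.InJ J r → Cov X Y r) : X.UJ J ≤ Y := by
  obtain ⟨M, hM⟩ : ∃ M : ℤ, ∀ r, P.ht r ≤ M :=
    (Set.finite_range P.ht).bddAbove.imp fun M hM r => hM ⟨r, rfl⟩
  have key : ∀ k : ℕ, ∀ r, P.Pos r → ¬ P.InJ J r → M - P.ht r < k → ∀ t, X.x r t ∈ Y := by
    intro k
    induction k with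
    | zero => intro r _ _ h; have := hM r; omega
    | succ k ih =>
      intro r hr hr' hk t
      obtain ⟨y, hy, e⟩ := h r hr hr' t
      have h1 : y ∈ X.UJ J := by
        have := mul_mem (inv_mem (X.x_mem (S := {r | P.Pos r ∧ ¬ P.InJ J r}) ⟨hr, hr'⟩ t)) (hle e)
        rwa [inv_mul_cancel_left] at this
      have h2 := mem_US_inter hX.sep P.cl_pos (P.cl_UJ J)
        ⟨fun a ha b hb k hk => (hi_stable _ a ha.1 b hb).2 k hk, fun a ha => P.ht_pos ha.1⟩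
        (fun a ha => ha.1) (fun a ha => ha.1) h1 hy
      have h3 : y ∈ Y := X.US_le.2 (fun a ha => ih a ha.1.1 ha.1.2
        (by have := ha.2.2; push_cast at hk; omega)) h2
      simpa using mul_mem e (inv_mem h3)
  exact X.US_le.2 fun r hr => key (M - P.ht r + 1).toNat r hr.1 hr.2 (by have := hM r; omega)

omit hY in
/-- A weakly closed subgroup of `U` is a unipotent radical, given the covering rule. -/
theorem eq_UJ_of_weakly_closed [Finite F] [Fintype R] (hX : X.Faithful)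
    (hsep : ∀ i j, i ≠ j → SepH X (P.sp i) (P.sp j))
    (hrule : ∀ Y : Subgroup G, (∀ b ∈ X.B, ∀ y ∈ Y, b * y * b⁻¹ ∈ Y) → ∀ r, P.Pos r →
      (∀ i, r ≠ P.sp i) → ∃ a b, P.Pos a ∧ P.Pos b ∧ P.Comb a b r ∧
        (Cov X Y a → Cov X Y r) ∧ (Cov X Y b → Cov X Y r))
    (hU : Y ≤ X.U) (hwc : ∀ g ∈ X.grp, (∀ y ∈ Y, g * y * g⁻¹ ∈ X.U) → ∀ y ∈ Y, g * y * g⁻¹ ∈ Y) :
    ∃ J, Y = X.UJ J := by
  have hY : ∀ b ∈ X.B, ∀ y ∈ Y, b * y * b⁻¹ ∈ Y := fun b hb =>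
    hwc b (X.B_le_grp hb) fun y hy => X.conj_mem_U_of_mem_B hb (hU hy)
  let J : Set ι := {j | ∀ y ∈ Y, X.ns j * y * (X.ns j)⁻¹ ∈ Y}
  have hle : Y ≤ X.UJ J := by
    obtain ⟨w, hw, e⟩ := P.exists_longest J
    obtain ⟨l, hl, rfl⟩ := P.mem_WJ_iff.1 hw
    have h1 : ∀ y ∈ Y, X.nw l * y * (X.nw l)⁻¹ ∈ Y := by
      clear hw e
      induction l with
      | nil => simp [X.nw_nil]
      | cons i l ih =>
        intro y hy
        have := hl i (by simp) _ (ih (fun j hj => hl j (by simp [hj])) y hy)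
        rw [X.nw_cons]
        simpa [mul_assoc] using this
    intro y hy
    refine X.US_mono ?_ (mem_Up_of_conj hX (X.rep_nw l) (hU hy) (X.U_le_B (hU (h1 y hy))))
    exact fun r hr => ⟨hr.1, fun h => e r hr.1 h hr.2⟩
  refine ⟨J, le_antisymm hle (UJ_le_of_cov hX hle ?_)⟩
  have key : ∀ k : ℕ, ∀ r, P.ht r < k → P.Pos r → ¬ P.InJ J r → Cov X Y r := by
    intro k
    induction k with
    | zero => intro r h hr; have := P.ht_pos hr; omega
    | succ k ih =>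
      intro r hk hr hr'
      by_cases hs : ∃ i, r = P.sp i
      · obtain ⟨i, rfl⟩ := hs
        rw [P.inJ_sp] at hr'
        by_contra hc
        refine hr' (hwc _ (X.N_le_grp (X.ns_mem_N i)) fun y hy => ?_)
        have : y ∈ X.US ({r | P.Pos r} \ {P.sp i}) := by
          by_contra h
          exact hc (cov_sp hY hsep hy (hU hy) h)
        exact (X.acts_ns i).conj_mem (fun s hs => P.pos_σ hs.1 hs.2) this
      · push Not at hs
        obtain ⟨a, b, ha, hb, hab, h1, h2⟩ := hrule Y hY r hr hs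
        have := ht_comb ha hb hab
        have := P.ht_pos ha
        have := P.ht_pos hb
        by_cases haJ : P.InJ J a
        · exact h2 (ih b (by push_cast at hk; omega) hb fun hbJ => hr' (hab.inJ haJ hbJ))
        · exact h1 (ih a (by push_cast at hk; omega) ha haJ)
  exact fun r hr => key (P.ht r + 1).toNat r (by have := P.ht_pos hr; omega) hr

end Cfsg.Agent.H64
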