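import Cfsg.Agent.H64.WeakClMat
import Cfsg.Agent.H38.Order
import Cfsg.Agent.H40.MatW

/-! Centralizers of products of commuting root elements. -/

namespace Cfsg.Agent.H64
open Cfsg.Agent.H38

section abstract
variable {ι R : Type} [Fintype ι] [DecidableEq ι]
variable {P : RS ι R} {F : Type*} [Field F] {G : Type*} [Group G] [Fintype R] {X : RG P F G}

theorem mem_US_inter_W (hX : X.Faithful) {S T : Set R} (hS : P.Cl (htL ι) S) (hS' : ∀ r ∈ S, P.Pos r)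
    {w : Equiv.Perm R} (hw : w ∈ P.W) (hT : ∀ r ∈ T, ∀ s ∈ T, ∀ k, P.Comb r s k → k ∈ T)
    (hT' : ∀ r ∈ T, P.Pos (w r)) {z : G} (h1 : z ∈ X.US S) (h2 : z ∈ X.US T) : z ∈ X.US (S ∩ T) := by
  obtain ⟨f, hf⟩ := exists_cl_W P hw
  have hcl : P.Cl f T := ⟨hT, fun r hr => hf.pos r (hT' r hr)⟩
  obtain ⟨a, ha, b, hb, e⟩ := X.exists_mul_of_mem_US hcl
    (S₁ := T ∩ {r | P.Pos r}) (S₂ := T ∩ {r | ¬ P.Pos r})
    (by ext r; by_cases h : P.Pos r <;> simp [h]) h2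
  have hzU : z ∈ X.U := X.US_mono hS' h1
  have haU : a ∈ X.U := X.US_mono Set.inter_subset_right ha
  have hb1 : b = 1 := hX.eq_one_of_mem_B_V
    (by rw [show b = a⁻¹ * z by rw [e]; group]; exact X.U_le_B (mul_mem (inv_mem haU) hzU))
    (X.US_mono Set.inter_subset_right hb)
  rw [hb1, mul_one] at e
  subst e
  have hcl' : P.Cl (htL ι) (T ∩ {r | P.Pos r}) :=
    ⟨fun r hr s hs k hk => ⟨hT r hr.1 s hs.1 k hk, hk.pos hr.2 hs.2⟩, fun r hr => P.ht_pos hr.2⟩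
  have := mem_US_inter hX.sep P.cl_pos hS hcl' hS' Set.inter_subset_right h1 ha
  exact X.US_mono (fun r hr => Set.mem_inter hr.1 hr.2.1) this

theorem prodL_mul_inj (hX : X.Faithful) {S : Set R} (hS' : ∀ r ∈ S, P.Pos r)
    (hab : ∀ r ∈ S, ∀ s ∈ S, ∀ k, ¬ P.Comb r s k) {Θ : List R} (hΘ : Θ.Nodup) (hΘS : ∀ r ∈ Θ, r ∈ S)
    {a a' : R → F} {y y' : G} (hy : y ∈ X.US (S \ {r | r ∈ Θ})) (hy' : y' ∈ X.US (S \ {r | r ∈ Θ}))
    (e : X.prodL Θ a * y = X.prodL Θ a' * y') : ∀ r ∈ Θ, a r = a' r := by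
  classical
  have hcl : ∀ T ⊆ S, P.Cl (htL ι) T := fun T hT =>
    ⟨fun r hr s hs k hk => absurd hk (hab r (hT hr) s (hT hs) k), fun r hr => P.ht_pos (hS' r (hT hr))⟩
  let L := (Finset.univ.filter (· ∈ S \ {r | r ∈ Θ})).toList
  have hL : ∀ r, r ∈ L ↔ r ∈ S \ {r | r ∈ Θ} := by simp [L]
  obtain ⟨c, rfl⟩ := X.exists_prodL (hcl _ Set.sdiff_subset) hL (Finset.nodup_toList _) hy
  obtain ⟨c', rfl⟩ := X.exists_prodL (hcl _ Set.sdiff_subset) hL (Finset.nodup_toList _) hy'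
  have key : ∀ a c : R → F, X.prodL Θ a * X.prodL L c =
      X.prodL (Θ ++ L) fun r => if r ∈ Θ then a r else c r := fun a c => by
    rw [X.prodL_append]
    congr 1
    · exact X.prodL_congr fun r hr => by simp [hr]
    · exact X.prodL_congr fun r hr => by simp [show r ∉ Θ from ((hL r).1 hr).2]
  rw [key, key] at e
  intro r hr
  have := X.prodL_inj hX.sep (hcl S le_rfl) (L := Θ ++ L)
    (fun r hr => (List.mem_append.1 hr).elim (hΘS r) fun h => ((hL r).1 h).1)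
    (List.nodup_append.2 ⟨hΘ, Finset.nodup_toList _, fun a ha b hb e => ((hL b).1 hb).2 (e ▸ ha)⟩) e r
    (List.mem_append_left _ hr)
  simpa [hr] using this

theorem exists_prodL_mul {S : Set R} (hS' : ∀ r ∈ S, P.Pos r)
    (hab : ∀ r ∈ S, ∀ s ∈ S, ∀ k, ¬ P.Comb r s k) {Θ : List R} (hΘ : Θ.Nodup) {T : Set R} (hT : T ⊆ S)
    {z : G} (hz : z ∈ X.US T) : ∃ a : R → F, (∀ r, r ∉ T → a r = 0) ∧
      ∃ y ∈ X.US (S \ {r | r ∈ Θ}), z = X.prodL Θ a * y := by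
  classical
  have hcl : P.Cl (htL ι) T :=
    ⟨fun r hr s hs k hk => absurd hk (hab r (hT hr) s (hT hs) k), fun r hr => P.ht_pos (hS' r (hT hr))⟩
  let L := (Finset.univ.filter (· ∈ T \ {r | r ∈ Θ})).toList
  have hL : ∀ r, r ∈ L ↔ r ∈ T \ {r | r ∈ Θ} := by simp [L]
  obtain ⟨c, rfl⟩ := X.exists_prodL hcl (L := Θ.filter (· ∈ T) ++ L)
    (fun r => by by_cases h : r ∈ Θ <;> simp [hL, h])
    (List.nodup_append.2 ⟨hΘ.filter _, Finset.nodup_toList _, fun a ha b hb e =>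
      ((hL b).1 hb).2 (e ▸ (List.mem_filter.1 ha).1)⟩) hz
  refine ⟨fun r => if r ∈ T then c r else 0, fun r hr => if_neg hr, X.prodL L c,
    X.prodL_mem (fun r hr => Set.mem_sdiff_of_mem (hT ((hL r).1 hr).1) ((hL r).1 hr).2) c, ?_⟩
  rw [X.prodL_append, prodL_filter]

omit [Fintype R] in
theorem conj_prodL {g : G} {χ : R → F} (h : ∀ r t, g * X.x r t * g⁻¹ = X.x r (χ r * t)) (L : List R)
    (a : R → F) : g * X.prodL L a * g⁻¹ = X.prodL L fun r => χ r * a r := by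
  induction L with
  | nil => simp [X.prodL_nil]
  | cons r L ih => rw [X.prodL_cons, X.prodL_cons, ← ih, ← h]; group

omit [Fintype R] in
theorem U_conj_prodL {S T : Set R} (hS' : ∀ r ∈ S, P.Pos r) (hT : T ⊆ S)
    (hb : ∀ r, P.Pos r → ∀ s ∈ S, ∀ a b, (X.x s b)⁻¹ * (X.x r a)⁻¹ * X.x s b * X.x r a ∈ X.US T)
    {Θ : List R} (hΘS : ∀ r ∈ Θ, r ∈ S) (a : R → F) {u : G} (hu : u ∈ X.U) :
    ∃ y ∈ X.US T, u⁻¹ * X.prodL Θ a * u = X.prodL Θ a * y := by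
  have h1 : ∀ r, P.Pos r → ∀ b, ∀ k ∈ X.US T, (X.x r b)⁻¹ * k * X.x r b ∈ X.US T := by
    intro r hr b k hk
    have := X.conj_mem_US (g := (X.x r b)⁻¹) (K := X.US T) (fun s hs c => by
      have := mul_mem (X.x_mem hs c) (hb r hr s (hT hs) b c)
      simpa [mul_assoc] using this) hk
    simpa using this
  have h2 : ∀ r, P.Pos r → ∀ b, (X.prodL Θ a)⁻¹ * (X.x r b)⁻¹ * X.prodL Θ a * X.x r b ∈ X.US T :=
    fun r hr b => comm_mem_of_gen X.toRG0 (S := S) (fun s hs => h1 s (hS' s hs))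
      (fun s hs c => hb r hr s hs b c) (X.prodL_mem hΘS a)
  have h3 := comm_mem_of_gen X.toRG0 (S := {r | P.Pos r}) (g := X.prodL Θ a) h1
    (fun r hr b => by simpa [mul_assoc] using inv_mem (h2 r hr b)) hu
  exact ⟨_, inv_mem h3, by group⟩

theorem centralizer_pattern (hX : X.Faithful)
    (hcomm : ∀ h ∈ X.H, ∀ h' ∈ X.H, h * h' = h' * h)
    (hmul : ∀ i a b, a ≠ 0 → b ≠ 0 → X.h (P.sp i) a * X.h (P.sp i) b = X.h (P.sp i) (a * b))
    {S : Set R} (hS' : ∀ r ∈ S, P.Pos r) (hab : ∀ r ∈ S, ∀ s ∈ S, ∀ k, ¬ P.Comb r s k)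
    {Θ : List R} (hΘ : Θ.Nodup) (hΘS : ∀ r ∈ Θ, r ∈ S)
    (hb : ∀ r, P.Pos r → ∀ s ∈ S, ∀ a b,
      (X.x s b)⁻¹ * (X.x r a)⁻¹ * X.x s b * X.x r a ∈ X.US (S \ {r | r ∈ Θ}))
    {J : Set ι} (hW : ∀ w ∈ P.W, (∀ θ ∈ Θ, w θ ∈ S) → w ∈ P.WJ J)
    {K : Subgroup G} (hK : K ≤ X.grp ⊓ Subgroup.centralizer {X.prodL Θ 1})
    (hJ : ∀ j ∈ J, ∀ t, X.x (P.sp j) t ∈ K ∧ X.x (P.neg (P.sp j)) t ∈ K)
    (hH : ∀ c : ι → F, (∀ i, c i ≠ 0) → (∀ θ ∈ Θ, ∏ i, c i ^ P.A i θ = 1) → ∀ i, i ∉ J → c i = 1)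
    {L : List R} (hL : L.Nodup) (hLp : ∀ r ∈ L, P.Pos r) (hLK : ∀ r, P.Pos r → r ∉ L → ∀ t, X.x r t ∈ K)
    (hU : ∀ c, X.prodL L c * X.prodL Θ 1 = X.prodL Θ 1 * X.prodL L c → X.prodL L c ∈ K) :
    X.grp ⊓ Subgroup.centralizer {X.prodL Θ 1} = K := by
  classical
  refine le_antisymm ?_ hK
  rintro g ⟨hg, hgc⟩
  replace hgc : g ∈ Subgroup.centralizer {X.prodL Θ 1} := hgc
  have hC : ∀ k ∈ K, k ∈ Subgroup.centralizer {X.prodL Θ 1} := fun k hk => (hK hk).2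
  have hcl : P.Cl (htL ι) S :=
    ⟨fun r hr s hs k hk => absurd hk (hab r hr s hs k), fun r hr => P.ht_pos (hS' r hr)⟩
  have hn' : ∀ j ∈ J, ∀ c, X.n (P.sp j) c ∈ K := fun j hj c =>
    mul_mem (mul_mem (hJ j hj _).1 (hJ j hj _).2) (hJ j hj _).1
  obtain ⟨u, hu, n, w, hn, u', hu', rfl⟩ := X.exists_bruhat' hg
  have hw := hn.mem_W
  have hwJ : w ∈ P.WJ J := by
    refine hW w hw fun θ hθ => ?_
    by_contra hne
    obtain ⟨y, hy, e⟩ := U_conj_prodL hS' Set.sdiff_subset hb hΘS 1 hu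
    obtain ⟨y', hy', e'⟩ := U_conj_prodL hS' Set.sdiff_subset hb hΘS 1 (inv_mem (X.Um_le w hu'))
    have h1 : X.prodL Θ 1 * y' = n⁻¹ * (X.prodL Θ 1 * y) * n := by
      rw [← e, ← e']
      have := Subgroup.mem_centralizer_singleton_iff.1 hgc
      calc _ = n⁻¹ * u⁻¹ * (u * n * u' * X.prodL Θ 1) * u'⁻¹ := by group
        _ = _ := by rw [this]; group
    have h2 : X.prodL Θ 1 * y' ∈ X.US {r | w r ∈ S} := h1 ▸ hn.acts.conj_mem' hw (fun s hs => hs)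
      (mul_mem (X.prodL_mem hΘS 1) (X.US_mono Set.sdiff_subset hy))
    have h3 := mem_US_inter_W hX hcl hS' hw (T := {r | w r ∈ S})
      (fun r hr s hs k hk => absurd (hk.map hw) (hab _ hr _ hs _)) (fun r hr => hS' _ hr)
      (mul_mem (X.prodL_mem hΘS 1) (X.US_mono Set.sdiff_subset hy')) h2
    obtain ⟨a, ha, z, hz, e2⟩ := exists_prodL_mul hS' hab hΘ Set.inter_subset_left h3
    have := prodL_mul_inj hX hS' hab hΘ hΘS hy' hz e2 θ hθ
    rw [ha θ fun h => hne h.2] at this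
    exact one_ne_zero this
  have hu'K : u' ∈ K := X.US_le.2 (fun r hr => X.x_mem_of_supp (fun j hj => hn' j hj 1)
    (fun j hj t => (hJ j hj t).1) (by
      by_contra h
      exact hr.2 ((P.pos_WJ_of_not_inJ hwJ h).2 hr.1))) hu'
  obtain ⟨l, hl, rfl⟩ := P.mem_WJ_iff.1 hwJ
  have hk : X.nw l ∈ K := X.nw_mem_of fun i hi => hn' i (hl i hi) 1
  obtain ⟨c, hc, hh⟩ := exists_hprod X hcomm hmul (hn.mul_inv_mem_H (X.rep_nw l))
  have h4 : u * hprod X Finset.univ.toList c ∈ Subgroup.centralizer {X.prodL Θ 1} := by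
    have := mul_mem (mul_mem hgc (inv_mem (hC _ hu'K))) (inv_mem (hC _ hk))
    rw [← hh]; simpa [mul_assoc] using this
  have h5 : hprod X Finset.univ.toList c ∈ K := by
    obtain ⟨y, hy, e⟩ := U_conj_prodL hS' Set.sdiff_subset hb hΘS 1 hu
    have e2 := conj_prodL (hprod_conj_univ X hc) Θ 1
    have e3 : X.prodL Θ 1 * y = X.prodL Θ (fun r => (∏ i, c i ^ P.A i r) * (1 : R → F) r) * 1 := by
      rw [← e, ← e2]
      have := Subgroup.mem_centralizer_singleton_iff.1 h4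
      calc _ = u⁻¹ * (X.prodL Θ 1 * (u * hprod X Finset.univ.toList c)) *
          (hprod X Finset.univ.toList c)⁻¹ := by group
        _ = _ := by rw [← this]; group
    have h6 := hH c hc fun θ hθ => by
      simpa using (prodL_mul_inj hX hS' hab hΘ hΘS hy (one_mem _) e3 θ hθ).symm
    refine hprod_mem X fun i _ => ?_
    by_cases hi : i ∈ J
    · exact mul_mem (hn' i hi _) (hn' i hi _)
    · rw [h6 i hi, X.h_one]; exact one_mem _
  have h7 : u ∈ Subgroup.centralizer {X.prodL Θ 1} := by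
    simpa using mul_mem h4 (inv_mem (hC _ h5))
  have h8 : u ∈ K := by
    let L' := (Finset.univ.filter fun r => P.Pos r ∧ r ∉ L).toList
    have hL' : ∀ r, r ∈ L' ↔ P.Pos r ∧ r ∉ L := by simp [L']
    obtain ⟨a, rfl⟩ := X.exists_prodL P.cl_pos (L := L ++ L')
      (fun r => by by_cases h : r ∈ L <;> simp [hL', h, hLp])
      (List.nodup_append.2 ⟨hL, Finset.nodup_toList _, fun a ha b hb e =>
        ((hL' b).1 hb).2 (e ▸ ha)⟩) hu
    have h9 : X.prodL L' a ∈ K :=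
      X.US_le.2 (fun r hr => hLK r hr.1 hr.2) (X.prodL_mem (S := {r | P.Pos r ∧ r ∉ L})
        (fun r hr => (hL' r).1 hr) a)
    rw [X.prodL_append] at h7 ⊢
    refine mul_mem (hU a (Subgroup.mem_centralizer_singleton_iff.1 ?_)) h9
    simpa using mul_mem h7 (inv_mem (hC _ h9))
  have : n = hprod X Finset.univ.toList c * X.nw l := by rw [← hh]; simp
  rw [this]
  exact mul_mem (mul_mem h8 (mul_mem h5 hk)) hu'K

theorem mem_WJ_of_fun {w : Equiv.Perm R} (hw : w ∈ P.W) {J : Set ι} (f : R → ℤ)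
    (hf : ∀ r, f (w r) = f r) (h1 : ∀ r, P.Pos r → 0 < f r ∨ P.InJ J r) (h2 : ∀ r, ¬ P.Pos r → f r ≤ 0) :
    w ∈ P.WJ J :=
  P.mem_WJ_of_inv hw fun r hr hr' => (h1 r hr).resolve_left (not_lt.2 (hf r ▸ h2 _ hr'))

end abstract

open Cfsg.Lie Cfsg.Lie.ChevalleyDatum Cfsg.Agent.H37

variable {D : ChevalleyDatum} [Chev D] (hD : IsChev D)

theorem fun_W {α : Type*} (f : ℕ → α) (h : ∀ i < D.rank, ∀ r < D.nroots, f (D.reflectRoot i r) = f r)
    {w : Equiv.Perm (Fin D.nroots)} (hw : w ∈ (rs D).W) (r : Fin D.nroots) : f (w r) = f r := by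
  obtain ⟨l, rfl⟩ := (rs D).mem_W_iff.1 hw
  induction l with
  | nil => rfl
  | cons i l ih =>
    rw [RS.wd_cons, Equiv.Perm.mul_apply, rs_σ_val', h _ i.2 _ (Fin.is_lt _), ih ((rs D).wd_mem_W l)]

include hD in
theorem pairing_W {w : Equiv.Perm (Fin D.nroots)} (hw : w ∈ (rs D).W) (r s : Fin D.nroots) :
    D.pairing (w r) (w s) = D.pairing r s := H39.pairing_W (rs_W_eq_RD hD ▸ hw) r s

theorem inJ_of_cor {J : Set (Fin D.rank)} {r : Fin D.nroots} (h : ∀ j, j ∉ J → cor D r j = 0) :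
    (rs D).InJ J r := fun j hj => (Chev.cor_eq_zero_iff r.2 j.2).1 (h j hj)

include hD in
theorem not_comb_of_hN {r s : Fin D.nroots} (hr : (rs D).Pos r) (hs : (rs D).Pos s)
    (h : ∀ k < D.nroots, hN D k < hN D r + hN D s) (k : Fin D.nroots) : ¬ (rs D).Comb r s k := by
  intro hk
  have h1 := ht_comb hr hs hk
  have h2 := h k k.2
  simp only [ht_eq_hN hD] at h1
  omega

variable (F : Type*) [Field F]

theorem mg_comm_mem (p : ℕ) [CharP F p] {r s : Fin D.nroots} (h2 : s ≠ (rs D).neg r)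
    {A : Set (Fin D.nroots)} (h : ∀ c ∈ D.commTerms r s, (p : ℤ) ∣ c.2.1 ∨ ∃ k ∈ A, c.1 = (k : ℕ))
    (a b : F) : ((mg hD F).x s b)⁻¹ * ((mg hD F).x r a)⁻¹ * (mg hD F).x s b * (mg hD F).x r a ∈
      (mg hD F).US A := by
  by_cases h1 : s = r
  · subst h1
    rw [mul_assoc, mul_assoc, RG0.x_comm]; simp
  rw [mg_comm_eq hD F h1 h2]
  refine gword_mem hD F fun q hq => ?_
  obtain ⟨d, hd, rfl⟩ := List.mem_map.1 hq
  obtain ⟨h5, -⟩ := comb_of_term hd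
  refine ⟨h5, (h d hd).imp (fun h => ?_) ?_⟩
  · simp [(CharP.intCast_eq_zero_iff F p _).2 h]
  · rintro ⟨k, hk, e⟩
    rwa [show (⟨d.1, h5⟩ : Fin D.nroots) = k from Fin.ext e]

/-- the combinatorial part of the data for `mg_cent` -/
def CentOK (D : ChevalleyDatum) (p : ℤ) (Θ S K L J : List ℕ) (a : List ℤ) : Prop :=
  (∀ r ∈ S, r < D.nroots ∧ D.nroots / 2 ≤ r ∧ ∀ s ∈ S, ∀ k < D.nroots, hN D k < hN D r + hN D s) ∧
  Θ.Nodup ∧ (∀ r ∈ Θ, r ∈ S) ∧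
  (∀ r < D.nroots, D.nroots / 2 ≤ r → ∀ s ∈ S, ∀ c ∈ D.commTerms r s, p ∣ c.2.1 ∨ (c.1 ∈ S ∧ c.1 ∉ Θ)) ∧
  (∀ r < D.nroots, (D.nroots / 2 ≤ r → 0 < ((Θ.zip a).map fun e => e.2 * D.pairing e.1 r).sum ∨
    ∀ j < D.rank, j ∉ J → cor D r j = 0) ∧
    (¬ D.nroots / 2 ≤ r → ((Θ.zip a).map fun e => e.2 * D.pairing e.1 r).sum ≤ 0)) ∧
  (∀ r ∈ K, ∀ θ ∈ Θ, θ ≠ D.neg r ∧ ∀ c ∈ D.commTerms r θ, p ∣ c.2.1) ∧
  (∀ j ∈ J, D.simple j ∈ K ∧ D.neg (D.simple j) ∈ K) ∧ L.Nodup ∧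
  (∀ r ∈ L, r < D.nroots ∧ D.nroots / 2 ≤ r) ∧ ∀ r < D.nroots, D.nroots / 2 ≤ r → r ∉ L → r ∈ K

set_option synthInstance.maxSize 8000 in
instance decCentOK (D : ChevalleyDatum) (p : ℤ) (Θ S K L J : List ℕ) (a : List ℤ) :
    Decidable (CentOK D p Θ S K L J a) := by
  unfold CentOK; infer_instance

theorem mg_cent (p : ℕ) [CharP F p] {Θ S K L J : List ℕ} {a : List ℤ} (h : CentOK D p Θ S K L J a)
    (hW : ∀ w ∈ (rs D).W, (∀ θ : Fin D.nroots, (θ : ℕ) ∈ Θ → (w θ : ℕ) ∈ S) →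
      ∀ θ : Fin D.nroots, (θ : ℕ) ∈ Θ → w θ = θ)
    (hH : ∀ c : Fin D.rank → F, (∀ i, c i ≠ 0) → (∀ θ ∈ Θ, ∏ i, c i ^ D.cartan i θ = 1) →
      ∀ i : Fin D.rank, (i : ℕ) ∉ J → c i = 1)
    (hU : ∀ c : ℕ → F, gword (matRel hD F).x (L.map fun r => (r, c r)) *
      gword (matRel hD F).x (Θ.map fun r => (r, 1)) = gword (matRel hD F).x (Θ.map fun r => (r, 1)) *
        gword (matRel hD F).x (L.map fun r => (r, c r)) → ∀ r ∈ L, c r = 0) :
    D.group F ⊓ Subgroup.centralizer {gword (matRel hD F).x (Θ.map fun r => (r, 1))} =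
      (mg hD F).US {r | (r : ℕ) ∈ K} := by
  obtain ⟨h1, h2, h3, h4, h5, h6, h7, h8, h9, h10⟩ := h
  have hΘ : ∀ r ∈ Θ, r < D.nroots := fun r hr => (h1 r (h3 r hr)).1
  have hL : ∀ r ∈ L, r < D.nroots := fun r hr => (h9 r hr).1
  have hS : ∀ r ∈ {r : Fin D.nroots | (r : ℕ) ∈ S}, (rs D).Pos r :=
    fun r hr => (rs_pos_iff r).2 (h1 r hr).2.1
  have e : (mg hD F).prodL (Θ.pmap Fin.mk hΘ) 1 = gword (matRel hD F).x (Θ.map fun r => (r, 1)) :=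
    H40.prodL_pmap hD Θ hΘ fun _ => 1
  rw [← e, ← mg_grp hD]
  refine centralizer_pattern (mg_faithful hD F) (fun h hh h' hh' => mg_H_comm hD F hh hh')
    (fun i => mg_hmul hD F _) (J := {j | (j : ℕ) ∈ J}) (L := L.pmap Fin.mk hL) hS
    (fun r hr s hs => not_comb_of_hN hD (hS r hr) (hS s hs) ((h1 r hr).2.2 s hs))
    (H40.nodup_pmap_mk hΘ h2) (fun r hr => h3 r ((H40.mem_pmap_mk hΘ r).1 hr))
    (fun r hr s hs => mg_comm_mem hD F p ((rs D).ne_neg_of_pos hr (hS s hs)) fun c hc => ?_)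
    (fun w hw h => ?_) (le_inf (RG.US_le_grp _ _) ?_) ?_ ?_
    (H40.nodup_pmap_mk hL h8) (fun r hr => (rs_pos_iff r).2 (h9 r ((H40.mem_pmap_mk hL r).1 hr)).2)
    ?_ fun c hc => ?_
  · refine (h4 r r.2 ((rs_pos_iff r).1 hr) s hs c hc).imp_right fun h => ?_
    exact ⟨⟨c.1, (h1 _ h.1).1⟩, ⟨h.1, fun h' => h.2 ((H40.mem_pmap_mk hΘ _).1 h')⟩, rfl⟩
  · have hfix := hW w hw fun θ hθ => h θ ((H40.mem_pmap_mk hΘ θ).2 hθ)
    refine mem_WJ_of_fun hw (fun r => ((Θ.zip a).map fun e => e.2 * D.pairing e.1 r).sum)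
      (fun r => ?_) (fun r hr => ((h5 r r.2).1 ((rs_pos_iff r).1 hr)).imp_right
        fun h => inJ_of_cor fun j hj => h j j.2 hj) fun r hr => (h5 r r.2).2 (mt (rs_pos_iff r).2 hr)
    congr 1
    refine List.map_congr_left fun q hq => ?_
    have h0 := (List.of_mem_zip hq).1
    have := pairing_W hD hw ⟨q.1, hΘ _ h0⟩ r
    rw [hfix ⟨q.1, hΘ _ h0⟩ h0] at this
    rw [this]
  · rw [RG0.US_le]
    intro r hr t
    rw [Subgroup.mem_centralizer_singleton_iff]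
    refine (Commute.list_prod_right _ _ fun y hy => ?_).eq
    obtain ⟨θ, hθ, rfl⟩ := List.mem_map.1 hy
    have := h6 r hr θ ((H40.mem_pmap_mk hΘ θ).1 hθ)
    exact mg_comm_of_dvd hD F p (fun e => this.1 (congrArg Fin.val e)) this.2 _ _
  · intro j hj t
    have := h7 j hj
    constructor <;> refine RG0.x_mem _ ?_ t <;>
      simp only [Set.mem_ofPred_eq, rs_neg_val, rs_sp_val, this]
  · intro c hc h i hi
    refine hH c hc (fun θ hθ => ?_) i hi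
    simpa only [rs_A] using h ⟨θ, hΘ θ hθ⟩ ((H40.mem_pmap_mk hΘ _).2 hθ)
  · intro r hr hr' t
    refine RG0.x_mem _ ?_ t
    exact h10 r r.2 ((rs_pos_iff r).1 hr) fun h => hr' ((H40.mem_pmap_mk hL r).2 h)
  · have e2 : (mg hD F).prodL (L.pmap Fin.mk hL) c = gword (matRel hD F).x
        (L.map fun r => (r, if h : r < D.nroots then c ⟨r, h⟩ else 0)) := by
      rw [← H40.prodL_pmap hD L hL]; simp
    rw [e, e2] at hc
    have := hU _ hc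
    rw [RG0.prodL_congr _ (t' := 0) fun r hr => by
      simpa using this r ((H40.mem_pmap_mk hL r).1 hr), RG0.prodL_zero]
    exact one_mem _

theorem US_cons {a : ℕ} (ha : a < D.nroots) (l : List ℕ) :
    (mg hD F).US {r | (r : ℕ) ∈ a :: l} = D.rootSubgroup F a ⊔ (mg hD F).US {r | (r : ℕ) ∈ l} := by
  rw [show D.rootSubgroup F a = _ from mg_rootSubgroup hD F ⟨a, ha⟩, ← RG0.US_union]
  congr 1
  ext r; simp [Fin.ext_iff]

theorem US_nil : (mg hD F).US {r | (r : ℕ) ∈ ([] : List ℕ)} = ⊥ := by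
  simp [RG0.US_empty]

end Cfsg.Agent.H64
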