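import Cfsg.Agent.H64.WeakCl
import Cfsg.Agent.H64.RootMat
import Cfsg.Agent.H39.Bridge
import Cfsg.Agent.H40.Rel

/-! The covering rules for the matrix Chevalley groups. -/

namespace Cfsg.Agent.H64
open Cfsg.Lie Cfsg.Lie.ChevalleyDatum Cfsg.Agent.H37 Cfsg.Agent.H38

/-- computable height -/
def hN (D : ChevalleyDatum) (r : ℕ) : ℤ := H39.sumLT D.rank ((H39.certOf D).rc r)

/-- first order rule -/
def R1 (D : ChevalleyDatum) (ok : List ℤ) (r a s : ℕ) : Prop :=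
  (∃ e ∈ ok, (D.commTerms s a).head? = some (r, e, 1, 1)) ∧
    ∀ c ∈ (D.commTerms s a).tail, 3 ≤ c.2.2.1 + c.2.2.2

instance decR1 (D : ChevalleyDatum) (ok : List ℤ) (r a s : ℕ) : Decidable (R1 D ok r a s) := by
  unfold R1; infer_instance

/-- higher order rule -/
def R2 (D : ChevalleyDatum) (l : ℤ) (E : List ℤ) (r a s : ℕ) : Prop :=
  (∃ c ∈ D.commTerms s a, c.1 = r ∧ ¬ l ∣ c.2.1) ∧ ((D.commTerms s a).map Prod.fst).Nodup ∧
  (∀ k < D.nroots, D.nroots / 2 ≤ k → hN D a < hN D k → ∀ c ∈ D.commTerms s k, c.1 = r → l ∣ c.2.1) ∧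
  (∀ k < D.nroots, D.nroots / 2 ≤ k → hN D a < hN D k → ∀ k' < D.nroots, D.nroots / 2 ≤ k' →
    hN D a + hN D s ≤ hN D k' → k ≠ k' → hN D r < hN D k + hN D k') ∧
  ∀ k < D.nroots, D.nroots / 2 ≤ k → hN D a + hN D s ≤ hN D k → hN D k ≤ hN D r → k ≠ r →
    ∃ q < D.nroots, D.pairing q k = 0 ∧ D.pairing q r ∈ E

set_option synthInstance.maxSize 4000 in
instance decR2 (D : ChevalleyDatum) (l : ℤ) (E : List ℤ) (r a s : ℕ) : Decidable (R2 D l E r a s) := by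
  unfold R2; infer_instance

/-- every non-fundamental positive root is reached by a rule -/
def Rules (D : ChevalleyDatum) (ok : List ℤ) (l : ℤ) (E : List ℤ) : Prop :=
  ∀ r < D.nroots, D.nroots / 2 ≤ r → (∃ i < D.rank, r = D.simple i) ∨ ∃ i < D.rank,
    ∃ a ∈ (D.chainEntry (D.neg (D.simple i)) r).map Prod.fst, a < D.nroots ∧ D.nroots / 2 ≤ a ∧
      a ≠ D.simple i ∧ ((R1 D ok r a (D.simple i) ∧ R1 D ok r (D.simple i) a) ∨
        (l ≠ 0 ∧ R2 D l E r a (D.simple i) ∧ R2 D l E r (D.simple i) a))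

set_option synthInstance.maxSize 4000 in
instance decRules (D : ChevalleyDatum) (ok : List ℤ) (l : ℤ) (E : List ℤ) :
    Decidable (Rules D ok l E) := by
  unfold Rules; infer_instance

/-- fundamental roots are separated by the torus -/
def SepS (D : ChevalleyDatum) (E : List ℤ) : Prop :=
  ∀ i < D.rank, ∀ j < D.rank, i ≠ j → ∃ q < D.nroots, D.pairing q (D.simple i) = 0 ∧
    D.pairing q (D.simple j) ∈ E

set_option synthInstance.maxSize 4000 in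
instance decSepS (D : ChevalleyDatum) (E : List ℤ) : Decidable (SepS D E) := by
  unfold SepS; infer_instance

theorem rules_G2 : Rules chevG2 [1, -1, 2, -2, 3, -3] 0 [] := by decide +kernel
theorem rules_G2_two : Rules chevG2 [1, -1, 3, -3] 2 [1, -1, 2, -2] := by decide +kernel
theorem rules_G2_three : Rules chevG2 [1, -1, 2, -2] 3 [1, -1, 2, -2, 3, -3] := by decide +kernel
theorem rules_B2 : Rules chevB2 [1, -1, 2, -2] 0 [] := by decide +kernel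
theorem rules_B2_two : Rules chevB2 [1, -1] 2 [1, -1, 2, -2] := by decide +kernel
theorem rules_F4 : Rules chevF4 [1, -1, 2, -2] 0 [] := by decide +kernel
theorem rules_F4_two : Rules chevF4 [1, -1] 2 [1, -1, 2, -2] := by decide +kernel
theorem rules_D4 : Rules chevD4 [1, -1] 0 [] := by decide +kernel
theorem rules_E6 : Rules chevE6 [1, -1] 0 [] := by decide +kernel
theorem rules_E7 : Rules chevE7 [1, -1] 0 [] := by decide +kernel
theorem rules_E8 : Rules chevE8 [1, -1] 0 [] := by decide +kernel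
theorem sepS_G2 : SepS chevG2 [1, -1, 2, -2] := by decide +kernel
theorem sepS_B2 : SepS chevB2 [1, -1, 2, -2] := by decide +kernel
theorem sepS_F4 : SepS chevF4 [1, -1, 2, -2] := by decide +kernel
theorem sepS_D4 : SepS chevD4 [1, -1, 2, -2] := by decide +kernel
theorem sepS_E6 : SepS chevE6 [1, -1] := by decide +kernel
theorem sepS_E7 : SepS chevE7 [1, -1] := by decide +kernel
theorem sepS_E8 : SepS chevE8 [1, -1] := by decide +kernel

theorem exists_zpow_ne_one {F : Type*} [Field F] [Fintype F] {e : ℤ} (he : e ≠ 0)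
    (h : e.natAbs + 1 < Fintype.card F) : ∃ c : F, c ≠ 0 ∧ c ^ e ≠ 1 := by
  classical
  obtain ⟨g, hg⟩ := IsCyclic.exists_generator (α := Fˣ)
  refine ⟨g, g.ne_zero, fun h1 => ?_⟩
  have h2 : g ^ e = 1 := Units.ext (by simpa using h1)
  have h3 := orderOf_dvd_iff_zpow_eq_one.2 h2
  rw [orderOf_eq_card_of_forall_mem_zpowers hg, Nat.card_eq_fintype_card, Fintype.card_units,
    Int.natCast_dvd] at h3
  have := Nat.le_of_dvd (Int.natAbs_pos.2 he) h3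
  omega

theorem cast_eq_zero_iff {F : Type*} [Field F] (l : ℕ) [hl : Fact l.Prime] (h : (l : F) = 0) (z : ℤ) :
    (z : F) = 0 ↔ (l : ℤ) ∣ z := by
  have : CharP F l := (CharP.charP_iff_prime_eq_zero hl.out).2 h
  exact CharP.intCast_eq_zero_iff F l z

variable {D : ChevalleyDatum} [Chev D] (hD : IsChev D)

include hD in
theorem ht_eq_hN (r : Fin D.nroots) : (rs D).ht r = hN D r := by
  rw [hN, H39.sumLT_eq, RS.ht]
  exact Finset.sum_congr rfl fun j _ => (H39.RD_rc hD r j).symm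

theorem comb_of_term {a s : Fin D.nroots} {c : ℕ × ℤ × ℕ × ℕ} (hc : c ∈ D.commTerms s a) :
    ∃ h : c.1 < D.nroots, (rs D).Comb s a ⟨c.1, h⟩ ∧
      (rs D).ht ⟨c.1, h⟩ = c.2.2.1 * (rs D).ht s + c.2.2.2 * (rs D).ht a ∧ 1 ≤ c.2.2.1 ∧ 1 ≤ c.2.2.2 := by
  obtain ⟨h, h1, h2, e⟩ := Chev.commTerms_sound s.2 a.2 hc
  refine ⟨h, ⟨c.2.2.1, c.2.2.2, by omega, by omega, funext fun j => e j j.2⟩, ?_, h1, h2⟩
  simp only [RS.ht, rs_cf, Finset.mul_sum, ← Finset.sum_add_distrib]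
  exact Finset.sum_congr rfl fun j _ => e j j.2

variable (F : Type*) [Field F]

theorem gword_mem {A : Set (Fin D.nroots)} {L : List (ℕ × F)}
    (h : ∀ p ∈ L, ∃ h : p.1 < D.nroots, p.2 = 0 ∨ (⟨p.1, h⟩ : Fin D.nroots) ∈ A) :
    gword (matRel hD F).x L ∈ (mg hD F).US A := by
  refine Subgroup.list_prod_mem _ fun g hg => ?_
  obtain ⟨p, hp, rfl⟩ := List.mem_map.1 hg
  obtain ⟨h1, h2 | h2⟩ := h p hp
  · rw [matRel_x_eq hD F h1, h2, RG0.x_zero]; exact one_mem _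
  · rw [matRel_x_eq hD F h1]; exact RG0.x_mem _ h2 _

theorem mg_comm_eq {a s : Fin D.nroots} (h1 : a ≠ s) (h2 : a ≠ (rs D).neg s) (t u : F) :
    ((mg hD F).x a u)⁻¹ * ((mg hD F).x s t)⁻¹ * (mg hD F).x a u * (mg hD F).x s t =
      gword (matRel hD F).x (D.commWord F s a t u) := by
  rw [mul_assoc, mg_x_comm hD F h1 h2]; group

theorem sepH_of_pairing {s r : Fin D.nroots} {q : ℕ} (hq : q < D.nroots) (h : D.pairing q s = 0)
    (h' : ∃ c : F, c ≠ 0 ∧ c ^ D.pairing q r ≠ 1) : SepH (mg hD F) s r := by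
  obtain ⟨c, hc, h'⟩ := h'
  have e : (mg hD F).h ⟨q, hq⟩ c = (matRel hD F).h q c := rg_h _ _ _
  refine ⟨(mg hD F).h ⟨q, hq⟩ c, RG.h_mem_H _ _ hc, _, h', fun t => ?_,
    fun t => e ▸ H40.h_conj (matRel hD F) hq r.2 hc t⟩
  have := H40.h_conj (matRel hD F) hq s.2 hc t
  rwa [h, zpow_zero, one_mul, ← e] at this

variable {F} [Finite F] {Y : Subgroup (GL D.Idx F)}
  (hY : ∀ b ∈ (mg hD F).B, ∀ y ∈ Y, b * y * b⁻¹ ∈ Y)
include hY

theorem R1.cov {ok : List ℤ} (hok : ∀ e ∈ ok, (e : F) ≠ 0) {r a s : Fin D.nroots}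
    (h : R1 D ok r a s) (ha : (rs D).Pos a) (hs : (rs D).Pos s) (has : a ≠ s)
    (hc : Cov (mg hD F) Y a) : Cov (mg hD F) Y r := by
  obtain ⟨⟨e, he, h1⟩, h2⟩ := h
  obtain ⟨L, hL⟩ := List.head?_eq_some_iff.1 h1
  obtain ⟨h0, h3, h4, -⟩ := comb_of_term (a := a) (s := s) (c := (r, e, 1, 1)) (by simp [hL])
  have h4' : (rs D).ht r = (rs D).ht a + (rs D).ht s := by simpa [add_comm] using h4
  refine cov_step hY (h3.pos hs ha) hs hc h4' ⟨e * (-1) ^ 1 * 1 ^ 1, by simpa using hok e he,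
    gword (matRel hD F).x (L.map fun c => (c.1, (c.2.1 : F) * (-1) ^ c.2.2.1 * 1 ^ c.2.2.2)), ?_, ?_⟩
  · refine gword_mem hD F fun p hp => ?_
    obtain ⟨c, hc, rfl⟩ := List.mem_map.1 hp
    obtain ⟨h5, h6, h7, h8, h9⟩ := comb_of_term (a := a) (s := s) (c := c) (by simp [hL, hc])
    refine ⟨h5, Or.inr ⟨h6.pos hs ha, ?_⟩⟩
    have := h2 c (by simp [hL, hc])
    have := (rs D).ht_pos ha
    have := (rs D).ht_pos hs
    rw [h7, h4']
    have h8' : (1 : ℤ) ≤ c.2.2.1 := by exact_mod_cast h8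
    have h9' : (1 : ℤ) ≤ c.2.2.2 := by exact_mod_cast h9
    have h10 : (3 : ℤ) ≤ c.2.2.1 + c.2.2.2 := by exact_mod_cast h2 c (by simp [hL, hc])
    nlinarith
  · rw [mg_comm_eq hD F has ((rs D).ne_neg_of_pos hs ha), commWord, hL]
    rfl

theorem R2.cov {l : ℤ} (hl : ∀ z : ℤ, (z : F) = 0 ↔ l ∣ z) {E : List ℤ}
    (hE : ∀ e ∈ E, ∃ c : F, c ≠ 0 ∧ c ^ e ≠ 1) {r a s : Fin D.nroots}
    (h : R2 D l E r a s) (ha : (rs D).Pos a) (hs : (rs D).Pos s) (has : a ≠ s)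
    (hc : Cov (mg hD F) Y a) : Cov (mg hD F) Y r := by
  obtain ⟨⟨c, hcm, hcr, hcl⟩, hnd, h1, h2, h3⟩ := h
  simp only [← ht_eq_hN hD] at h1 h2 h3
  have ha0 := (rs D).ht_pos ha
  have hs0 := (rs D).ht_pos hs
  obtain ⟨h0, hcomb, -⟩ := comb_of_term hcm
  have hcomb' : (rs D).Comb s a r := by simpa [hcr] using hcomb
  have hr := hcomb'.pos hs ha
  have hrh := ht_comb hs ha hcomb'
  let A : Set (Fin D.nroots) := hi (rs D) ((rs D).ht a + (rs D).ht s - 1) \ {r}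
  have hT : hi (rs D) ((rs D).ht r) ⊆ A := fun k hk =>
    ⟨⟨hk.1, by have := hk.2; omega⟩, by rintro rfl; exact lt_irrefl _ hk.2⟩
  have hins : ∀ b ∈ insert r A, b ∈ hi (rs D) ((rs D).ht a + (rs D).ht s - 1) := by
    rintro b (rfl | hb)
    exacts [⟨hr, by omega⟩, hb.1]
  have hab : ∀ b ∈ hi (rs D) ((rs D).ht a), ∀ b' ∈ insert r A, ∀ k, (rs D).Comb b b' k →
      k ∈ hi (rs D) ((rs D).ht r) := by
    intro b hb b' hb' k hk
    have hb'' := hins b' hb'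
    refine comb_mem_hi hb.1 hb''.1 hk ?_
    have := h2 b b.2 ((rs_pos_iff b).1 hb.1) (by rw [← ht_eq_hN hD]; exact hb.2) b' b'.2
      ((rs_pos_iff b').1 hb''.1) (by rw [← ht_eq_hN hD]; have := hb''.2; omega)
      (fun e => not_comb_self b k (by rwa [← Fin.ext e] at hk))
    rwa [← ht_eq_hN hD, ← ht_eq_hN hD] at this
  refine cov_of_iso hY hr hT (fun k hk => hk.1.1)
    (fun b hb => hab b ⟨(hins b hb).1, by have := (hins b hb).2; omega⟩) (fun k hk hk' => ?_)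
    (comm_step hY hr hs hc (fun k hk => hk.1.1) (fun b hb b' hb' k hk => hT (hab b hb b' hb' k hk))
      (fun b hb t => ?_) ?_)
  · obtain ⟨q, hq, e1, e2⟩ := h3 k k.2 ((rs_pos_iff k).1 hk.1.1)
      (by rw [← ht_eq_hN hD]; have := hk.1.2; omega) (by rwa [← ht_eq_hN hD])
      (fun e => hk.2 (Fin.ext e))
    exact sepH_of_pairing hD F hq e1 (hE _ e2)
  · by_cases hbs : b = s
    · subst hbs
      rw [mul_assoc, mul_assoc, RG0.x_comm]; simp
    rw [mg_comm_eq hD F hbs ((rs D).ne_neg_of_pos hs hb.1)]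
    refine gword_mem hD F fun p hp => ?_
    obtain ⟨d, hd, rfl⟩ := List.mem_map.1 hp
    obtain ⟨h5, h6, -⟩ := comb_of_term hd
    refine ⟨h5, ?_⟩
    by_cases hdr : d.1 = r
    · left
      have := (hl _).2 (h1 b b.2 ((rs_pos_iff b).1 hb.1) (by rw [← ht_eq_hN hD]; exact hb.2) d hd hdr)
      simp [this]
    · exact Or.inr ⟨comb_mem_hi hs hb.1 h6 (by have := hb.2; omega), fun e => hdr (congrArg Fin.val e)⟩
  · obtain ⟨L₁, L₂, hL⟩ := List.append_of_mem hcm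
    have hmem : ∀ L : List (ℕ × ℤ × ℕ × ℕ), (∀ d ∈ L, d ∈ D.commTerms s a ∧ d.1 ≠ r) →
        gword (matRel hD F).x (L.map fun c => (c.1, (c.2.1 : F) * (-1) ^ c.2.2.1 * 1 ^ c.2.2.2)) ∈
          (mg hD F).US A := by
      intro L hL
      refine gword_mem hD F fun p hp => ?_
      obtain ⟨d, hd, rfl⟩ := List.mem_map.1 hp
      obtain ⟨h5, h6, -⟩ := comb_of_term (hL d hd).1
      exact ⟨h5, Or.inr ⟨comb_mem_hi hs ha h6 (by omega), fun e => (hL d hd).2 (congrArg Fin.val e)⟩⟩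
    rw [hL, List.map_append, List.map_cons, List.nodup_middle, List.nodup_cons, hcr] at hnd
    have m1 := hmem L₁ fun d hd => ⟨by simp [hL, hd], fun e => hnd.1 (by
      rw [← e]; exact List.mem_append_left _ (List.mem_map_of_mem hd))⟩
    have m2 := hmem L₂ fun d hd => ⟨by simp [hL, hd], fun e => hnd.1 (by
      rw [← e]; exact List.mem_append_right _ (List.mem_map_of_mem hd))⟩
    set v : F := (c.2.1 : F) * (-1) ^ c.2.2.1 * 1 ^ c.2.2.2 with hv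
    refine ⟨v, by simp [hv, hl, hcl], _, mul_mem ((mg hD F).US_conj_mem (S := {r}) ?_
      (inv_mem (RG0.x_mem _ (Set.mem_singleton r) v)) m1) m2, ?_⟩
    · rintro b rfl k hk
      refine ⟨(rs D).ne_neg_of_pos hr hk.1.1, fun k' hk' => hT ?_⟩
      exact comb_mem_hi hr hk.1.1 hk' (by have := (rs D).ht_pos hk.1.1; omega)
    · rw [mg_comm_eq hD F has ((rs D).ne_neg_of_pos hs ha), commWord, hL]
      simp only [gword, List.map_append, List.map_cons, List.prod_append, List.prod_cons, hcr,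
        matRel_x_eq hD F r.2, ← hv]
      group

omit hY in
theorem mg_eq_UJ {ok : List ℤ} (hok : ∀ e ∈ ok, (e : F) ≠ 0) {l : ℤ}
    (hl : l ≠ 0 → ∀ z : ℤ, (z : F) = 0 ↔ l ∣ z) {E : List ℤ}
    (hE : ∀ e ∈ E, ∃ c : F, c ≠ 0 ∧ c ^ e ≠ 1) {E' : List ℤ}
    (hE' : ∀ e ∈ E', ∃ c : F, c ≠ 0 ∧ c ^ e ≠ 1) (h1 : Rules D ok l E) (h2 : SepS D E')
    (hU : Y ≤ (mg hD F).U) (hwc : ∀ g ∈ (mg hD F).grp, (∀ y ∈ Y, g * y * g⁻¹ ∈ (mg hD F).U) →
      ∀ y ∈ Y, g * y * g⁻¹ ∈ Y) : ∃ J, Y = (mg hD F).UJ J := by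
  refine eq_UJ_of_weakly_closed (mg_faithful hD F) (fun i j hij => ?_) (fun Y hY r hr hs => ?_) hU hwc
  · obtain ⟨q, hq, e1, e2⟩ := h2 i i.2 j j.2 fun e => hij (Fin.ext e)
    exact sepH_of_pairing hD F hq e1 (hE' _ e2)
  · rcases h1 r r.2 ((rs_pos_iff r).1 hr) with ⟨i, hi, e⟩ | ⟨i, hi, a, -, ha, ha', hne, h⟩
    · exact absurd (Fin.ext e) (hs ⟨i, hi⟩)
    have hpa : (rs D).Pos ⟨a, ha⟩ := (rs_pos_iff _).2 ha'
    have hps := (rs D).pos_sp ⟨i, hi⟩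
    have hne' : (⟨a, ha⟩ : Fin D.nroots) ≠ (rs D).sp ⟨i, hi⟩ := fun e => hne (congrArg Fin.val e)
    refine ⟨⟨a, ha⟩, (rs D).sp ⟨i, hi⟩, hpa, hps, ?_, ?_⟩
    · obtain ⟨c, hc, e⟩ : ∃ c ∈ D.commTerms a (D.simple i), c.1 = r := by
        rcases h with ⟨-, ⟨e, -, h⟩, -⟩ | ⟨-, -, ⟨c, hc, e, -⟩, -⟩
        · exact ⟨_, List.mem_of_mem_head? h, rfl⟩
        · exact ⟨c, hc, e⟩
      obtain ⟨h0, h, -⟩ := comb_of_term (s := ⟨a, ha⟩) (a := (rs D).sp ⟨i, hi⟩) hc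
      simpa [e] using h
    · rcases h with ⟨h, h'⟩ | ⟨h0, h, h'⟩
      · exact ⟨R1.cov hD hY hok (a := ⟨a, ha⟩) (s := (rs D).sp ⟨i, hi⟩) h hpa hps hne',
          R1.cov hD hY hok (s := ⟨a, ha⟩) (a := (rs D).sp ⟨i, hi⟩) h' hps hpa hne'.symm⟩
      · exact ⟨R2.cov hD hY (hl h0) hE (a := ⟨a, ha⟩) (s := (rs D).sp ⟨i, hi⟩) h hpa hps hne',
          R2.cov hD hY (hl h0) hE (s := ⟨a, ha⟩) (a := (rs D).sp ⟨i, hi⟩) h' hps hpa hne'.symm⟩

end Cfsg.Agent.H64
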