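import Cfsg.Agent.SYM.Hall2
import Cfsg.Agent.H18.SmallCent
import Cfsg.Agent.S0127
import Cfsg.Agent.S0110
import Cfsg.Agent.S0636

/-! P. Hall's theorem on `p`-groups of symplectic type. -/

set_option autoImplicit false

namespace Cfsg.Agent.H64

open Subgroup SYM.HL
open scoped commutatorElement

variable {G : Type*} [Group G] [Finite G]

theorem max_class (hG : IsPGroup 2 G) {D : Subgroup G} (hD : IsCyclic D) (hi : D.index = 2) {u t : G}
    (hu : u ∈ D) (h4 : u ^ 4 = 1) (ht : t * u ≠ u * t) : (∃ m, Nonempty (G ≃* DihedralGroup m)) ∨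
      (∃ m, Nonempty (G ≃* QuaternionGroup m)) ∨ IsQuasiDihedral G := by
  have h1 := H46.card_le_two_mul (A := centralizer {t}) (H := D) fun a _ b _ ha hb =>
    (mul_mem_iff_of_index_two hi).2 (iff_of_false ha hb)
  have h2 := S0127.card_le_of_isCyclic hD (W := D ⊓ centralizer {t}) inf_le_left two_pos fun x hx =>
    by_contra fun n => ht (by
      obtain ⟨k, rfl⟩ := H47.cyc_mem_zpowers hD hx.1 hu (by
        obtain ⟨c, hc⟩ := H31.four_dvd_orderOf hG n
        rw [hc, pow_mul, h4, one_pow])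
      exact ((show Commute x t from mem_centralizer_singleton_iff.1 hx.2).zpow_left k).symm)
  rcases H18.two_group_cases hG t (by omega) with h | ⟨n, -, h⟩ | ⟨n, h⟩ | h
  · exact (ht (IsCyclic.isMulCommutative.is_comm.comm t u)).elim
  exacts [Or.inl ⟨_, h⟩, Or.inr (Or.inl ⟨_, h⟩), Or.inr (Or.inr h)]

theorem es_of {p : ℕ} [hp : Fact p.Prime] (hG : IsPGroup p G) {E : Subgroup G} {z : G}
    (hz : orderOf z = p) (zE : z ∈ E) (zc : ∀ g, g * z = z * g)
    (hc : ∀ x ∈ E, ∀ y ∈ E, ⁅x, y⁆ ∈ zpowers z) (hq : ∀ x ∈ E, x ^ p ∈ zpowers z)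
    (hZ : ∀ x ∈ E, (∀ y ∈ E, x * y = y * x) → x ∈ zpowers z) : E ≤ zpowers z ∨ IsExtraspecial p E := by
  have hE := hG.to_subgroup E
  have c : center E = (zpowers z).subgroupOf E := by
    ext x
    refine ⟨fun h => hZ x x.2 fun y hy => (congrArg Subtype.val (mem_center_iff.1 h ⟨y, hy⟩)).symm,
      fun ⟨k, hk⟩ => mem_center_iff.2 fun y => Subtype.ext ?_⟩
    have := (show Commute (y : G) z from zc y).zpow_right k
    rwa [show (z ^ k : G) = x from hk] at this
  have cc : Nat.card (center E) = p := by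
    rw [c, Nat.card_congr (subgroupOfEquivOfLe (zpowers_le.2 zE)).toEquiv, Nat.card_zpowers, hz]
  have a : commutator E ≤ center E := c ▸ commutator_le.2 fun x _ y _ => hc x x.2 y y.2
  refine or_iff_not_imp_left.2 fun n => ?_
  have b : commutator E = center E := by
    refine eq_of_le_of_card_ge a ?_
    rcases (Nat.dvd_prime hp.out).1 (cc ▸ card_dvd_of_le a) with h | h
    · refine (n fun x hx => hZ x hx fun y hy => ?_).elim
      have := commutator_mem_commutator (mem_top (⟨x, hx⟩ : E)) (mem_top ⟨y, hy⟩)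
      exact congrArg Subtype.val (commutatorElement_eq_one_iff_mul_comm.1
        (mem_bot.1 ((card_eq_one.1 h).le this)))
    · rw [h, cc]
  exact ⟨⟨hE, le_antisymm ((H3.frattini_le_iff hE).2 ⟨a, fun x => c ▸ hq x x.2⟩)
    (b ▸ H3.commutator_le_frattini hE), b⟩, cc⟩

theorem hall_odd {p : ℕ} [hp : Fact p.Prime] (h2 : p ≠ 2) (hG : IsPGroup p G)
    (hs : ∀ A : Subgroup G, A.Characteristic → IsMulCommutative A → IsCyclic A) {z : G}
    (zc : z ∈ center G) (hz : orderOf z = p) : ∃ E R : Subgroup G, (∀ e ∈ E, ∀ r ∈ R, e * r = r * e) ∧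
      E ⊔ R = ⊤ ∧ (E = ⊥ ∨ IsExtraspecial p E) ∧ IsCyclic R := by
  have zp : z ^ p = 1 := hz ▸ pow_orderOf_eq_one z
  have Zc : zpowers z ≤ center G := zpowers_le.2 zc
  have cm : ∀ {c}, c ∈ zpowers z → ∀ g, Commute g c := fun h g => mem_center_iff.1 (Zc h) g
  have Zp : ∀ {c}, c ∈ zpowers z → c ^ p = 1 := fun ⟨k, hk⟩ => by
    rw [← hk, ← zpow_natCast, zpow_comm, zpow_natCast, zp, one_zpow]
  have Zch : ∀ φ : G ≃* G, zpowers z ≤ (zpowers z).comap φ.toMonoidHom := fun φ => zpowers_le.2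
    (H47.cyc_mem_zpowers (hs _ inferInstance inferInstance) zc
      (characteristic_iff_le_comap.1 inferInstance φ zc) (by rw [hz]; exact (map_pow φ z p).symm.trans (by simp [zp])))
  let E : Subgroup G :=
    { carrier := {x | (∀ g, ⁅x, g⁆ ∈ zpowers z) ∧ x ^ p = 1}
      one_mem' := by simp
      mul_mem' := fun {x y} hx hy => ⟨fun g => by
          rw [H3.commutator_mul_left_of_commute (cm (hy.1 g) x)]; exact mul_mem (hy.1 g) (hx.1 g), by
        rw [H3.mul_pow_of_odd_of_commute_commutator (cm (hy.1 x) x) (cm (hy.1 x) y) (hp.out.odd_of_ne_two h2)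
          (Zp (hy.1 x)), hx.2, hy.2, one_mul]⟩
      inv_mem' := fun {x} hx => ⟨fun g => by
          rw [H3.commutator_inv_left_of_commute (cm (hx.1 g) x)]; exact inv_mem (hx.1 g), by
        rw [inv_pow, hx.2, inv_one]⟩ }
  have Ech : E.Characteristic := characteristic_iff_le_comap.2 fun φ x hx => ⟨fun g => by
      obtain ⟨g, rfl⟩ := φ.surjective g
      exact (map_commutatorElement φ x g) ▸ Zch φ (hx.1 g), (map_pow φ x p).symm.trans (by simp [hx.2])⟩
  have ZE : zpowers z ≤ E ⊓ centralizer (E : Set G) := fun c hc =>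
    ⟨⟨fun g => by rw [(cm hc g).symm.commutator_eq]; exact one_mem _, Zp hc⟩, fun g _ => cm hc g⟩
  have hZ : ∀ x ∈ E, x ∈ centralizer (E : Set G) → x ∈ zpowers z := fun x hx h =>
    H47.cyc_mem_zpowers (hs (E ⊓ centralizer (E : Set G)) inferInstance
      (H2.isMulCommutative_of_forall fun a ha b hb => hb.2 a ha.1)) (ZE (mem_zpowers z)) ⟨hx, h⟩ (hz ▸ hx.2)
  have hD : IsCyclic (centralizer (E : Set G)) := by
    by_contra n
    obtain ⟨A, h1, h3, h4, h5⟩ := S0636.result h2 hG _ n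
    have : (zpowers z).Normal := ⟨fun c hc g => by rwa [(cm hc g).eq, mul_inv_cancel_right]⟩
    obtain ⟨x, x1, x2, -, x3⟩ := H3.exists_mem_central_mod hG (zpowers z) A fun h => by
      have := card_le_of_le h
      rw [h5, Nat.card_zpowers, hz] at this
      nlinarith [hp.out.one_lt]
    exact x2 (hZ x ⟨x3, h4.2 x x1⟩ (h1 x1))
  rcases es_of hG hz (ZE (mem_zpowers z)).1 (mem_center_iff.1 zc) (fun x hx y _ => hx.1 y)
    (fun x hx => hx.2 ▸ one_mem _) (fun x hx h => hZ x hx fun y hy => (h y hy).symm) with h | h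
  · exact ⟨⊥, _, by simp, by
      rw [bot_sup_eq, eq_top_iff]; exact fun g _ c hc => (cm (h hc) g).symm, Or.inl rfl, hD⟩
  · exact ⟨E, centralizer (E : Set G), fun e he r hr => hr e he, S0110.result hG E h (commutator_le.2 fun g _ x hx =>
      ZE (commutatorElement_inv x g ▸ inv_mem (hx.1 g))), Or.inr h, hD⟩

section two

variable {z u : G} (h : SYM.HL.SU z u)

theorem su_cyc : IsCyclic (centralizer (h.Q1 : Set G)) := by
  have := h.Q1_char
  have := Fact.mk Nat.prime_two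
  have hu := h.U_Q1 (mem_zpowers u)
  have k : ∀ x ∈ centralizer (h.Q1 : Set G), ∀ y ∈ centralizer (h.Q1 : Set G),
      x * x ∈ zpowers (y * y) → x * y = y * x := by
    rintro x hx y hy ⟨k, hk⟩
    have hw := mul_mem hx (zpow_mem hy (-k))
    obtain ⟨c, hc, e⟩ := h.mul_sq (hx u hu).symm (zpow_mem hy (-k) u hu).symm
    rw [← (Commute.refl y).mul_zpow, ← show (y * y) ^ k = x * x from hk, ← zpow_add, add_neg_cancel,
      zpow_zero, mul_one] at e
    have := SYM.HL.SU.U_comm (hy u hu).symm (h.cen1 ⟨(hw u hu).symm, e ▸ hc⟩ fun a ha => (hw a ha).symm)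
    rw [← mul_assoc, mul_assoc x, ((Commute.refl y).zpow_left _).eq, ← mul_assoc, mul_left_inj] at this
    exact this.symm
  refine h.hT.2 _ inferInstance (H2.isMulCommutative_of_forall fun x hx y hy => ?_)
  obtain ⟨i, hi⟩ := IsPGroup.iff_orderOf.1 h.pg (x * x)
  obtain ⟨j, hj⟩ := IsPGroup.iff_orderOf.1 h.pg (y * y)
  rcases le_total i j with l | l
  · refine k x hx y hy (H47.cyc_le_of_card_dvd h.AA_cyc
      (zpowers_le.2 (h.sqA x)) (zpowers_le.2 (h.sqA y)) ?_ (mem_zpowers _))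
    rw [Nat.card_zpowers, Nat.card_zpowers, hi, hj]; exact pow_dvd_pow 2 l
  · refine (k y hy x hx (H47.cyc_le_of_card_dvd h.AA_cyc
      (zpowers_le.2 (h.sqA y)) (zpowers_le.2 (h.sqA x)) ?_ (mem_zpowers _))).symm
    rw [Nat.card_zpowers, Nat.card_zpowers, hi, hj]; exact pow_dvd_pow 2 l

theorem su_fin {E R : Subgroup G} (h1 : E ≤ h.Q1) (h2 : z ∈ E) (h3 : u ∉ E)
    (h4 : ∀ x ∈ h.Q1, x ∈ E ∨ x * u ∈ E) (h5 : centralizer (h.Q1 : Set G) ≤ R)
    (h6 : ∀ e ∈ E, ∀ r ∈ R, e * r = r * e) (h7 : ∀ g, ∃ r ∈ R, g * r * u = u * (g * r)) :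
    ∃ E : Subgroup G, (∀ e ∈ E, ∀ r ∈ R, e * r = r * e) ∧ E ⊔ R = ⊤ ∧ (E = ⊥ ∨ IsExtraspecial 2 E) := by
  have := Fact.mk Nat.prime_two
  have uR : u ∈ R := h5 fun a ha => ha.1
  have top : E ⊔ R = ⊤ := eq_top_iff.2 fun g _ => by
    obtain ⟨r, hr, e⟩ := h7 g
    obtain ⟨q, hq, k⟩ := h.inner e
    refine (mul_mem_cancel_right (mem_sup_right hr)).1 ((mul_mem_cancel_right (?_ : q ∈ _)).1
      (mem_sup_right (h5 fun a ha => (k a ha).symm)))
    exact (h4 q hq).elim mem_sup_left fun l => (mul_mem_cancel_right (mem_sup_right uR)).1 (mem_sup_left l)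
  rcases es_of h.pg (orderOf_eq_prime (by rw [sq, h.zz]) h.z1) h2 h.zc (fun x _ y hy => h.comm1 x (h1 hy))
    (fun x hx => sq x ▸ (h1 hx).2) (fun x hx k => by
      have a := h.cen1 (h1 hx) fun y hy => (h4 y hy).elim (k y) fun l => mul_right_cancel (b := u) (by
        rw [mul_assoc, k _ l, mul_assoc, ← (h1 hx).1, mul_assoc])
      have b := zpowers_le.2 h.uA a
      rcases h.U_sq a with f | f
      · exact h.mem_z.2 (h.AA_inv b f)
      · rcases h.eq_or b f with rfl | rfl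
        exacts [(h3 hx).elim, (h3 ((mul_mem_cancel_left h2).1 hx)).elim]) with k | k
  · exact ⟨⊥, by simp, by
      rw [bot_sup_eq, ← top, sup_eq_right.2 (k.trans (zpowers_le.2 (h.uu ▸ mul_mem uR uR)))], Or.inl rfl⟩
  · exact ⟨E, h6, top, Or.inr k⟩

include h in
theorem hall_su : ∃ E R : Subgroup G, (∀ e ∈ E, ∀ r ∈ R, e * r = r * e) ∧ E ⊔ R = ⊤ ∧
    (E = ⊥ ∨ IsExtraspecial 2 E) ∧ (IsCyclic R ∨ (16 ≤ Nat.card R ∧ ((∃ m, Nonempty (R ≃* DihedralGroup m)) ∨
      (∃ m, Nonempty (R ≃* QuaternionGroup m)) ∨ IsQuasiDihedral R))) := by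
  have := Fact.mk Nat.prime_two
  have := h.Q1_char
  have hu := h.U_Q1 (mem_zpowers u)
  have hz := h.U_Q1 h.z_U
  by_cases hc : ∀ g, g * u = u * g
  · obtain ⟨E, ⟨e1, e2, e3⟩, mx⟩ := (Set.toFinite {E : Subgroup G | E ≤ h.Q1 ∧ z ∈ E ∧ u ∉ E}).exists_maximal
      ⟨zpowers z, zpowers_le.2 hz, mem_zpowers z, fun k => by
        rcases h.mem_z.1 k with k | k
        · exact h.z1 (by rw [← h.uu, k, mul_one])
        · exact h.z1 (by rw [← h.uu, k, h.zz])⟩
    suffices key : ∀ x ∈ h.Q1, x ∉ E → x * u ∈ E by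
      obtain ⟨E', k⟩ := su_fin h e1 e2 e3 (fun x hx => or_iff_not_imp_left.2 (key x hx)) le_rfl
        (fun e he r hr => hr e (e1 he)) fun g => ⟨1, one_mem _, hc _⟩
      exact ⟨E', _, k.1, k.2.1, k.2.2, Or.inl (su_cyc h)⟩
    intro x hx n
    have zE := zpowers_le.2 e2
    have xn : x ∈ normalizer (E : Set G) := H72.mem_normalizer_of_conj_mem fun y hy =>
      (mul_mem_cancel_right (inv_mem hy)).1 (zE (h.comm1 x (e1 hy)))
    have : u ∈ E ⊔ zpowers x := by_contra fun k => n (mx (y := E ⊔ zpowers x)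
      ⟨sup_le e1 (zpowers_le.2 hx), mem_sup_left e2, k⟩ le_sup_left (mem_sup_right (mem_zpowers x)))
    have k := ((H42.mem_sup_zpowers xn (zE hx.2)).1 this).resolve_left e3
    rw [show x * u = u * x⁻¹ * (x * x) by rw [hx.1]; group]
    exact mul_mem k (zE hx.2)
  obtain ⟨t, ht⟩ := not_forall.1 hc
  set D := centralizer (h.Q1 : Set G)
  have uD : u ∈ D := fun a ha => ha.1
  have tu := (h.alt t hu).resolve_left ht
  have tn : t ∈ normalizer (D : Set G) := le_normalizer_of_normal (mem_top t)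
  have tt : t * t ∈ D := fun a ha => h.sq_comm (by
    rw [← inv_mem_iff]; convert h.comm1 t ha using 1; group)
  have tD : t ∉ D := fun k => ht (k u hu).symm
  obtain ⟨E', k⟩ := su_fin h (E := h.Q1 ⊓ centralizer {t}) (R := D ⊔ zpowers t) inf_le_left
    ⟨hz, mem_centralizer_singleton_iff.2 (h.zc t).symm⟩
    (fun k => ht (mem_centralizer_singleton_iff.1 k.2).symm) (fun x hx => (h.alt t hx).imp
      (fun k => ⟨hx, mem_centralizer_singleton_iff.2 k.symm⟩) fun k => ⟨mul_mem hx hu,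
        mem_centralizer_singleton_iff.2 (by
          rw [← mul_assoc t, k, mul_assoc z, mul_assoc x t, tu, ← mul_assoc x z, h.zc x, mul_assoc z x,
            ← mul_assoc z z, h.zz, one_mul, mul_assoc])⟩) le_sup_left
    (fun e he r hr => (mem_centralizer_singleton_iff.1 ((sup_le
      (fun d hd => mem_centralizer_singleton_iff.2 (hd e he.1).symm) (zpowers_le.2
        (mem_centralizer_singleton_iff.2 (mem_centralizer_singleton_iff.1 he.2).symm)) :
          D ⊔ zpowers t ≤ centralizer {e}) hr)).symm)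
    (fun g => (h.alt g hu).elim (fun k => ⟨1, one_mem _, by rwa [mul_one]⟩) fun k =>
      ⟨t, mem_sup_right (mem_zpowers t), by
        rw [mul_assoc, tu, ← mul_assoc, h.zc, mul_assoc, ← mul_assoc g, k, mul_assoc, ← mul_assoc z, h.zz,
          one_mul, mul_assoc]⟩)
  refine ⟨E', _, k.1, k.2.1, k.2.2, Or.inr ⟨?_, ?_⟩⟩
  · have a : zpowers u < D := lt_of_le_of_ne (zpowers_le.2 uD) fun e =>
      ht (h.four (fun x _ k => e ▸ fun a ha => (k a ha.1).symm) t)
    have b := H4.mul_card_le_of_lt (h.pg.to_subgroup D) a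
    have c : orderOf u = 2 ^ (1 + 1) := orderOf_eq_prime_pow (by rw [pow_one, sq, h.uu]; exact h.z1)
      (by rw [pow_succ, pow_mul, pow_one, sq, sq, h.uu, h.zz])
    rw [H42.card_sup_zpowers tn tt tD]
    rw [Nat.card_zpowers, c] at b
    omega
  · have := su_cyc h
    refine max_class (h.pg.to_subgroup _) (D := D.subgroupOf _)
      (isCyclic_of_surjective _ (subgroupOfEquivOfLe le_sup_left).symm.surjective)
      (H42.relIndex_sup_zpowers tn tt tD) (u := ⟨u, mem_sup_left uD⟩) (t := ⟨t, mem_sup_right (mem_zpowers t)⟩)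
      uD (Subtype.ext ?_) fun e => ht (congrArg Subtype.val e)
    change u ^ (2 * 2) = 1
    rw [pow_mul, sq, sq, h.uu, h.zz]

end two

end Cfsg.Agent.H64
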