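import Cfsg.Agent.H21.FF4
import Cfsg.Agent.H23.ZJ
import Cfsg.Agent.H34.JBF1
import Cfsg.Agent.S0617

set_option autoImplicit false

namespace Cfsg.Agent.H64
open Subgroup H21
open scoped commutatorElement

variable {G : Type*} [Group G] [Finite G] {p : ℕ} [hp : Fact p.Prime] {V H Q : Subgroup G}

omit [Finite G] in
theorem comm_of_le' {A B : Subgroup G} [IsMulCommutative A] (h : B ≤ A) : IsMulCommutative B :=
  ⟨⟨fun x y => Subtype.ext (mul_comm_of_mem (h x.2) (h y.2))⟩⟩

/-- abelian `p`-groups with the best-offender inequality are elementary abelian -/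
theorem elem_of_abelian_offender (h : FFHyp p V H Q) (n : ℕ) : ∀ A : Subgroup G, Nat.card A = n →
    A ≤ H → IsMulCommutative A → IsPGroup p A →
    (∀ B ≤ A, Nat.card B * Nat.card ↥(V ⊓ centralizer (B : Set G)) ≤
      Nat.card A * Nat.card ↥(V ⊓ centralizer (A : Set G))) → IsElementaryAbelian p A := by
  induction n using Nat.strong_induction_on with | _ n ih => ?_
  intro A hn hAH hAc hAp hmax
  by_cases h1 : A = ⊥
  · rw [h1]; exact isElementaryAbelian_bot p
  have := h.elem.1
  have hVp := IsElementaryAbelian.isPGroup h.elem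
  have hAV := hAH.trans h.norm
  obtain ⟨r1, r2⟩ := replacement hAV (by rw [commutator_self_eq_bot_iff.2 hAc]; exact bot_le)
    hmax (U := V) le_rfl
  set A' := A ⊓ centralizer ((⁅V, A⁆ : Subgroup G) : Set G) with hA'
  have hq : ⁅⁅V, A'⁆, A'⁆ = ⊥ := by
    rw [eq_bot_iff, ← commutator_eq_bot_iff'.2 (inf_le_right : A' ≤ _)]
    exact commutator_mono (commutator_mono le_rfl inf_le_left) le_rfl
  have hb : IsBestOffenderOn p V A' :=
    ⟨fun B hB => (hmax B (hB.trans inf_le_left)).trans_eq r2, quadratic_commutator_le hq,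
      fun a ha => quadratic_pow_mem h.elem (inf_le_left.trans hAV) hq ha⟩
  have hne : ⁅V, A'⁆ ≠ ⊥ := fun k => by
    rw [inf_eq_left.2 (le_centralizer_iff.1 (commutator_eq_bot_iff'.1 k))] at r1
    have hc := commutator_le_of_le_normalizer hAV
    refine h.commutator_ne_bot hAH h1 (eq_bot_of_le_commutator_of_isPGroup (hVp.to_le hc) hAp
      (le_normalizer_commutator hAV le_normalizer) ?_)
    conv_lhs => rw [r1]
    rw [commutator_sup_of_le_comm hc inf_le_left hAV,
      commutator_eq_bot_iff_le_centralizer.2 (inf_le_right (a := V)), sup_bot_eq]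
  obtain ⟨B, hBA', b1, b2, b3⟩ := exists_minimal_offender hb hne
  have hBA : B ≤ A := hBA'.trans inf_le_left
  have hB : MinOff p V B := ⟨b1, b2, b3⟩
  have bl := h.block (hBA.trans hAH) hB
  have cB := h.card_minOff (hBA.trans hAH) hB
  have hAB : A ≤ normalizer (B : Set G) := le_normalizer_of_le_comm le_rfl hBA
  set F := ⁅Q, B⁆ ⊔ B
  set W := ⁅V, F⁆
  have hWV : W ≤ V := commutator_le_of_le_normalizer ((h.commutator_sup_le (hBA.trans hAH)).trans h.norm)
  have hWp := hVp.to_le hWV
  have hAW : A ≤ normalizer (W : Set G) := le_normalizer_commutator hAV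
    (le_normalizer_sup (le_normalizer_commutator (hAH.trans h.qnorm) hAB) hAB)
  have hB1 : B ≠ ⊥ := fun k => hp.out.ne_one (by rw [← cB, k]; simp)
  have hBW : B ⊓ centralizer (W : Set G) = ⊥ :=
    eq_bot_iff.2 ((inf_le_inf_right _ le_sup_right).trans bl.faith.le)
  have hW1 : W ≠ ⊥ := fun k => by
    have : Nat.card W = p ^ 2 := bl.card
    rw [k, card_bot] at this
    exact hp.out.ne_one (Nat.pow_eq_one.1 this.symm |>.resolve_right two_ne_zero)
  have hZ : W ⊓ centralizer (A : Set G) < W := lt_of_le_of_ne inf_le_left fun k =>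
    hB1 (eq_bot_iff.2 ((le_inf le_rfl (hBA.trans (le_centralizer_iff.1 (inf_eq_left.1 k)))).trans hBW.le))
  have cle : ∀ X < W, Nat.card X ≤ p := fun X hX => by
    have := prime_mul_card_le_of_lt hWp hX
    rw [bl.card, pow_two] at this
    exact Nat.le_of_mul_le_mul_left this hp.out.pos
  have cZ : p ≤ Nat.card ↥(W ⊓ centralizer (A : Set G)) := by
    have := prime_mul_card_le_of_lt (hWp.to_le inf_le_left)
      (bot_lt_iff_ne_bot.2 (inf_centralizer_ne_bot_of_isPGroup hAp W hWp hAW hW1))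
    simpa using this
  obtain ⟨u, hu, hu'⟩ := SetLike.exists_of_lt hZ
  have eW : W ⊓ centralizer (A : Set G) ⊔ zpowers u = W := by
    have l : W ⊓ centralizer (A : Set G) ⊔ zpowers u ≤ W := sup_le inf_le_left (zpowers_le.2 hu)
    refine eq_of_le_of_card_le l ?_
    have := prime_mul_card_le_of_lt (hWp.to_le l) (X := W ⊓ centralizer (A : Set G))
      (lt_of_le_of_ne le_sup_left fun k => hu' (k ▸ mem_sup_right (mem_zpowers u)))
    rw [bl.card, pow_two]
    exact (Nat.mul_le_mul_left _ cZ).trans this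
  set A₁ := A ⊓ centralizer (W : Set G)
  have hi : A₁.relIndex A ≤ p := by
    refine (H34.relIndex_le_of_map (X := ↥⁅W, A⁆)
      (fun a => ⟨⁅u, (a : G)⁆, commutator_mem_commutator hu a.2⟩) fun a b e => ?_).trans
      (cle _ (commutator_lt_of_isPGroup hWp hAp hAW hW1))
    have m : (a : G)⁻¹ * b ∈ A := mul_mem (inv_mem a.2) b.2
    refine ⟨m, ?_⟩
    rw [← eW, centralizer_sup]
    refine ⟨le_centralizer_iff.1 inf_le_right m, mem_centralizer_zpowers.2 ?_⟩
    have e' : u * a * u⁻¹ * (a : G)⁻¹ = u * b * u⁻¹ * (b : G)⁻¹ := congrArg Subtype.val e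
    calc (a : G)⁻¹ * b * u = (a : G)⁻¹ * (u * b * u⁻¹ * (b : G)⁻¹)⁻¹ * u * b := by group
      _ = _ := by rw [← e']; group
  have c1 : Nat.card A ≤ p * Nat.card A₁ := by
    rw [← card_mul_relIndex_of_le (inf_le_left : A₁ ≤ A), mul_comm]
    exact Nat.mul_le_mul_right _ hi
  have eA : B ⊔ A₁ = A := by
    refine eq_of_le_of_card_le (sup_le hBA inf_le_left) (c1.trans ?_)
    have := card_mul_card_le B A₁
    rwa [cB, eq_bot_iff.2 ((inf_le_inf_left B inf_le_right).trans hBW.le), card_bot, mul_one] at this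
  have c2 : p * Nat.card ↥(V ⊓ centralizer (A : Set G)) ≤
      Nat.card ↥(V ⊓ centralizer (A₁ : Set G)) := by
    have := card_mul_card_le W (V ⊓ centralizer (A : Set G))
    rw [bl.card, pow_two, mul_assoc, mul_comm (Nat.card ↥(W ⊔ _))] at this
    refine Nat.le_of_mul_le_mul_left (this.trans (Nat.mul_le_mul (cle _ (lt_of_le_of_lt ?_ hZ))
      (card_le_of_le (sup_le ?_ ?_)))) hp.out.pos
    · exact inf_le_inf_left _ inf_le_right
    · exact le_inf hWV (le_centralizer_iff.1 inf_le_right)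
    · exact inf_le_inf_left _ (centralizer_anti inf_le_left)
  have lt : A₁ < A := lt_of_le_of_ne inf_le_left fun k =>
    hB1 (eq_bot_iff.2 ((le_inf le_rfl (hBA.trans (inf_eq_left.1 k))).trans hBW.le))
  have e1 := ih _ (hn ▸ card_lt_of_lt lt) A₁ rfl (lt.le.trans hAH)
    (comm_of_le' lt.le) (hAp.to_le lt.le) fun C hC =>
      (hmax C (hC.trans lt.le)).trans ((Nat.mul_le_mul_right _ c1).trans (by
        rw [mul_comm p, mul_assoc]; exact Nat.mul_le_mul_left _ c2))
  rw [← eA]
  exact isElementaryAbelian_sup (h.isElementaryAbelian (hBA.trans hAH) b1) e1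
    (le_centralizer_of_le_comm hBA lt.le)

/-- images of abelian subgroups of maximal order are best offenders -/
theorem bestOffender_of_maxAb [V.Normal] {Γ : Type*} [Group Γ] [Finite Γ] {ι : G →* Γ} {j : V →* Γ}
    (s : Sim V ι j) {H Q : Subgroup Γ} (h : FFHyp p (Sim.im j V) H Q) [IsMulCommutative V]
    {S A : Subgroup G} (hS : IsPGroup p S) (hVS : V ≤ S) (hA : A ∈ H23.maxAb 0 S)
    (hAH : A.map ι ≤ H) : IsBestOffenderOn p (Sim.im j V) (A.map ι) := by
  have := hA.2.1
  have hb : IsBestOffenderOn 0 V A := by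
    refine ⟨fun B hB => ?_, ?_, fun a _ => by rw [pow_zero]; exact one_mem _⟩
    · have hBe : IsElementaryAbelian 0 B := ⟨comm_of_le' hB, fun _ _ => pow_zero _⟩
      have h1 : Nat.card ↥(B ⊔ (V ⊓ centralizer (B : Set G))) ≤ Nat.card A :=
        hA.2.2.2 _ (sup_le (hB.trans hA.1) (inf_le_left.trans hVS))
          (isElementaryAbelian_sup hBe ⟨comm_of_le' inf_le_left, fun _ _ => pow_zero _⟩
            (le_centralizer_iff.1 inf_le_right)).1 fun _ _ => pow_zero _
      have h2 : B ⊓ (V ⊓ centralizer (B : Set G)) ≤ V ⊓ centralizer (A : Set G) :=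
        le_inf (inf_le_right.trans inf_le_left) (inf_le_left.trans (hB.trans A.le_centralizer))
      exact (card_mul_card_le _ _).trans (Nat.mul_le_mul h1 (card_le_of_le h2))
    · rw [commutator_self_eq_bot_iff.2 this]; exact bot_le
  have hb' := s.isBestOffenderOn hb
  refine ⟨hb'.1, hb'.2.1, fun a ha => ?_⟩
  rw [(elem_of_abelian_offender h _ _ rfl hAH inferInstance ((hS.to_le hA.1).map ι) hb'.1).2 a ha]
  exact one_mem _

theorem sl2_two_equiv :
    Nonempty (Matrix.SpecialLinearGroup (Fin 2) (ZMod 2) ≃* Equiv.Perm (Fin 3)) := by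
  let v : Fin 3 → Fin 2 → ZMod 2 := ![![1, 0], ![0, 1], ![1, 1]]
  let m : Equiv.Perm (Fin 3) → Matrix (Fin 2) (Fin 2) (ZMod 2) := fun σ =>
    !![v (σ 0) 0, v (σ 1) 0; v (σ 0) 1, v (σ 1) 1]
  have h1 : ∀ σ, (m σ).det = 1 := fun σ => by
    rw [Matrix.det_fin_two_of]; revert σ; decide
  have h2 : ∀ a b, m (a * b) = m a * m b := by decide
  have h3 : ∀ a, m a = 1 → a = 1 := by decide
  let f : Equiv.Perm (Fin 3) →* Matrix.SpecialLinearGroup (Fin 2) (ZMod 2) :=
    MonoidHom.mk' (fun σ => ⟨m σ, h1 σ⟩) fun a b => Subtype.ext (h2 a b)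
  have hf : Function.Injective f := (injective_iff_map_eq_one f).2 fun a h =>
    h3 a (congrArg Subtype.val h)
  refine ⟨(MulEquiv.ofBijective f ((Nat.bijective_iff_injective_and_card f).2 ⟨hf, ?_⟩)).symm⟩
  rw [card_sl2_zmod]; simp [Fintype.card_perm, Nat.factorial]

omit [Finite G] in
theorem equiv_pi_of_iSupIndep {ι : Type*} [Finite ι] {E : ι → Subgroup G} (hi : iSupIndep E)
    (hn : ∀ i, ⨆ j, E j ≤ normalizer (E i : Set G)) {M : Type*} [Group M]
    (he : ∀ i, Nonempty (E i ≃* M)) :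
    Nonempty (↥(⨆ j, E j) ≃* (Fin (Nat.card ι) → M)) := by
  classical
  have := Fintype.ofFinite ι
  have hc : Pairwise fun i j => ∀ x y : G, x ∈ E i → y ∈ E j → Commute x y := by
    intro i j hij x y hx hy
    rw [← commutatorElement_eq_one_iff_commute, ← mem_bot, ← (hi.pairwiseDisjoint hij).eq_bot]
    exact ⟨commutatorElement_mem_left (hn i (le_iSup E j hy)) hx,
      commutatorElement_mem_right (hn j (le_iSup E i hx)) hy⟩
  have e1 := MonoidHom.ofInjective (injective_noncommPiCoprod_of_iSupIndep (hcomm := hc) hi)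
  rw [noncommPiCoprod_range] at e1
  exact ⟨e1.symm.trans ((MulEquiv.piCongrRight fun i => (he i).some).trans
    (MulEquiv.arrowCongr (Finite.equivFin ι) (MulEquiv.refl M)))⟩

end Cfsg.Agent.H64
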