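import Cfsg.Agent.H64.SymSylow

/-! Sylow 2-subgroups of alternating groups: self-normalisation for degree at least six, and
overgroups in degree `2^k+1`. -/

set_option autoImplicit false

namespace Cfsg.Agent.H64

open Equiv Equiv.Perm

variable {α : Type*} [Fintype α] [DecidableEq α]

omit [DecidableEq α] in
theorem exists_not_mem_list (l : List α) (h : l.length < Fintype.card α) : ∃ x, x ∉ l := by
  classical
  by_contra hne
  push Not at hne
  have h1 : (Finset.univ : Finset α) ⊆ l.toFinset := fun x _ => List.mem_toFinset.2 (hne x)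
  have h2 := (Finset.card_le_card h1).trans (List.toFinset_card_le l)
  rw [Finset.card_univ] at h2
  omega

theorem dt_mem_alt {a b c d : α} (h1 : a ≠ b) (h2 : c ≠ d) :
    swap a b * swap c d ∈ alternatingGroup α := by
  simp [mem_alternatingGroup, h1, h2]

omit [Fintype α] in
theorem matching_dt {τ : Perm α} (hτ : IsMatching τ) {a b c d : α} (hn : [a, b, c, d].Nodup)
    (h : ∀ x, (swap a b * swap c d) (τ x) = τ ((swap a b * swap c d) x)) (hab : τ a ≠ b) :
    τ a = c ∨ τ a = d := by
  have h1 := h a
  simp only [List.nodup_cons, List.mem_cons, List.not_mem_nil, or_false, not_or,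
    not_false_eq_true, List.nodup_nil, and_true] at hn
  obtain ⟨⟨n1, n2, n3⟩, ⟨n4, n5⟩, n6⟩ := hn
  rw [Perm.mul_apply, Perm.mul_apply, swap_apply_of_ne_of_ne n2 n3, swap_apply_left] at h1
  by_contra hne
  push Not at hne
  rw [swap_apply_of_ne_of_ne hne.1 hne.2] at h1
  by_cases h2 : τ a = a
  · rw [h2, swap_apply_left] at h1
    exact n1 (hτ.fix _ _ h2 h1.symm)
  · rw [swap_apply_of_ne_of_ne h2 hab] at h1
    exact n1 (τ.injective h1)

theorem exists_moved {τ : Perm α} (hτ : IsMatching τ) (l : List α)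
    (h : l.length + 1 < Fintype.card α) : ∃ x, x ∉ l ∧ τ x ≠ x := by
  obtain ⟨x, hx⟩ := exists_not_mem_list l (by omega)
  by_cases h1 : τ x = x
  · obtain ⟨y, hy⟩ := exists_not_mem_list (x :: l) (by simpa using h)
    rw [List.mem_cons, not_or] at hy
    exact ⟨y, hy.2, fun h2 => hy.1 (hτ.fix _ _ h2 h1)⟩
  · exact ⟨x, hx, h1⟩

/-- A permutation normalising `Q ⊓ A_n` (`Q` Sylow in `S_n`, `n ≥ 6`) lies in `Q`. -/
theorem mem_sylow_of_normalizes_inf (hn : 6 ≤ Fintype.card α) (Q : Sylow 2 (Perm α))
    (x : Perm α) (hx : ∀ g ∈ Q, g ∈ alternatingGroup α → x * g * x⁻¹ ∈ Q ∧ x⁻¹ * g * x ∈ Q) :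
    x ∈ Q := by
  obtain ⟨τ, hτ, h1, h2⟩ := exists_matching Q
  have hs : ∀ a, swap a (τ a) ∈ Q := fun a => h2 _ (swap_pair τ hτ.invol a)
  have key : ∀ y : Perm α, (∀ g ∈ Q, g ∈ alternatingGroup α → y * g * y⁻¹ ∈ Q) →
      ∀ a, τ a ≠ a → y (τ a) = τ (y a) := by
    intro y hy a ha
    obtain ⟨c, hc, hc'⟩ := exists_moved hτ [a, τ a] (by simp; omega)
    have hi := hτ.invol
    have hinj := y.injective
    have hinj' := τ.injective
    have dt : ∀ e, τ e ≠ e → e ≠ a → e ≠ τ a → τ (y a) ≠ y (τ a) →
        τ (y a) = y e ∨ τ (y a) = y (τ e) := by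
      intro e he h3 h4 h5
      have hnd : [y a, y (τ a), y e, y (τ e)].Nodup := by
        have : [a, τ a, e, τ e].Nodup := by clear * - ha he h3 h4 hi; grind
        exact this.map hinj
      refine matching_dt hτ (b := y (τ a)) hnd (fun z => h1 _ ?_ z) h5
      have h6 := hy _ (Q.mul_mem (hs a) (hs e)) (dt_mem_alt ha.symm he.symm)
      rw [swap_apply_apply, swap_apply_apply]
      convert h6 using 1
      group
    by_contra hne
    by_cases h6 : Fintype.card α = 6
    · obtain ⟨e, he⟩ := exists_not_mem_list [a, τ a, c, τ c] (by simp; omega)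
      have he' : τ e ≠ e := by
        intro h7
        obtain ⟨f, hf⟩ := exists_not_mem_list [a, τ a, c, τ c, e] (by simp; omega)
        have hf' : τ f ≠ f := fun h8 => by have := hτ.fix _ _ h7 h8; clear * - this hf; grind
        have h9 : [a, τ a, c, τ c, e, f, τ f].Nodup := by
          have := hi a; have := hi c; have := hi f
          simp only [List.mem_cons, List.not_mem_nil, or_false, not_or, List.nodup_cons,
            not_false_eq_true, List.nodup_nil, and_true] at hc he hf ⊢
          clear hx h1 h2 hs hy dt hi hinj hinj' hτ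
          grind
        have := h9.length_le_card
        simp at this; omega
      simp only [List.mem_cons, List.not_mem_nil, or_false, not_or] at hc he
      have h7 := dt c hc' hc.1 hc.2 (Ne.symm hne)
      have h8 := dt e he' he.1 he.2.1 (Ne.symm hne)
      have := hi e; have := hi c
      clear hx h1 h2 hs hy dt hi hinj' hτ
      grind
    · obtain ⟨e, he, he'⟩ := exists_moved hτ [a, τ a, c, τ c] (by simp; omega)
      simp only [List.mem_cons, List.not_mem_nil, or_false, not_or] at hc he
      have h7 := dt c hc' hc.1 hc.2 (Ne.symm hne)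
      have h8 := dt e he' he.1 he.2.1 (Ne.symm hne)
      have := hi e; have := hi c
      clear hx h1 h2 hs hy dt hi hinj' hτ
      grind
  have hc : ∀ a, x (τ a) = τ (x a) := by
    intro a
    by_cases ha : τ a = a
    · by_contra h
      have h3 : τ (x a) ≠ x a := by rw [ha] at h; exact Ne.symm h
      have h4 := key x⁻¹ (fun g hg hg' => by simpa using (hx g hg hg').2) (x a) h3
      have h5 : x⁻¹ (x a) = a := by simp
      rw [h5, ha] at h4
      apply h3
      apply x⁻¹.injective
      rw [h4, h5]
    · exact key x (fun g hg hg' => (hx g hg hg').1) a ha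
  obtain ⟨a, -, ha⟩ := exists_moved hτ [] (by simp; omega)
  have h3 : ∀ y : Perm α, (∀ g ∈ Q, g ∈ alternatingGroup α → y * g * y⁻¹ ∈ Q) →
      (∀ a, y (τ a) = τ (y a)) → ∀ g ∈ Q, y * g * y⁻¹ ∈ Q := by
    intro y hy hy' g hg
    by_cases h4 : g ∈ alternatingGroup α
    · exact hy g hg h4
    · have h5 : g * swap a (τ a) ∈ alternatingGroup α := by
        rw [mem_alternatingGroup] at h4 ⊢
        rw [map_mul, sign_swap ha.symm, (Int.units_eq_one_or _).resolve_left h4]; simp
      have h6 := hy _ (Q.mul_mem hg (hs a)) h5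
      have h7 := hs (y a)
      rw [← hy', swap_apply_apply] at h7
      have h8 : _ ∈ Q := mul_mem h6 h7
      simpa [mul_assoc] using h8
  apply perm_sylow_normalizer_le Q
  rw [Subgroup.mem_set_normalizer_iff]
  intro g
  refine ⟨h3 x (fun g hg hg' => (hx g hg hg').1) hc g, fun hg => ?_⟩
  have h4 := h3 x⁻¹ (fun g hg hg' => by simpa using (hx g hg hg').2) (fun a => by
    apply x.injective
    rw [hc]; simp) _ hg
  simpa [mul_assoc] using h4

/-- Sylow 2-subgroups of alternating groups of degree at least six are self-normalising. -/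
theorem alt_sylow_normalizer_le (hn : 6 ≤ Fintype.card α) (R : Sylow 2 (alternatingGroup α)) :
    Subgroup.normalizer (R : Set (alternatingGroup α)) ≤ R := by
  obtain ⟨Q, hQ⟩ := R.exists_comap_subtype_eq
  have hR : ∀ g : alternatingGroup α, g ∈ R ↔ (g : Perm α) ∈ Q := fun g => by
    rw [← SetLike.mem_coe, ← R.coe_coe, ← hQ]; rfl
  intro x hx
  refine (hR x).2 (mem_sylow_of_normalizes_inf hn Q x fun g hg hg' => ⟨?_, ?_⟩)
  · exact (hR _).1 ((Subgroup.mem_set_normalizer_iff.1 hx ⟨g, hg'⟩).1 ((hR _).2 hg))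
  · have := (hR _).1 ((Subgroup.mem_set_normalizer_iff.1 (Subgroup.inv_mem _ hx) ⟨g, hg'⟩).1
      ((hR _).2 hg))
    simpa using this

theorem three_of_meet {M : Subgroup (Perm α)} {p a b c d e f : α}
    (hn : [p, a, b, c, d, e, f].Nodup) (h1 : swap p a * swap b c ∈ M)
    (h2 : swap p d * swap e f ∈ M) : ∃ g ∈ M, IsThreeCycle g := by
  have h3 : IsThreeCycle (swap p a * swap p d) :=
    isThreeCycle_swap_mul_swap_same (by grind) (by grind) (by grind)
  refine ⟨_, M.mul_mem (M.mul_mem h1 h2) (M.mul_mem h1 h2), ?_⟩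
  convert h3.isThreeCycle_sq using 1
  have c1 : Commute (swap b c) (swap p d) := (disjoint_swap_swap (by grind)).commute
  have c2 : Commute (swap b c) (swap p a) := (disjoint_swap_swap (by grind)).commute
  have c3 : Commute (swap b c) (swap e f) := (disjoint_swap_swap (by grind)).commute
  have c4 : Commute (swap e f) (swap p a) := (disjoint_swap_swap (by grind)).commute
  have c5 : Commute (swap e f) (swap p d) := (disjoint_swap_swap (by grind)).commute
  have e1 : swap p a * swap b c * (swap p d * swap e f) =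
      swap p a * swap p d * (swap b c * swap e f) := by
    rw [mul_assoc, ← mul_assoc (swap b c), c1.eq]; simp only [mul_assoc]
  have c6 : Commute (swap p a * swap p d) (swap b c * swap e f) :=
    ((c2.mul_right c1).mul_left (c4.mul_right c5)).symm
  rw [e1, ← pow_two, c6.mul_pow, c3.mul_pow]
  simp [pow_two]

theorem alt_le_of_two_trans {M : Subgroup (Perm α)}
    (h2 : ∀ a b c d : α, a ≠ b → c ≠ d → ∃ g ∈ M, g a = c ∧ g b = d)
    (h3 : ∃ g ∈ M, IsThreeCycle g) : alternatingGroup α ≤ M := by
  obtain ⟨g, hg, hg3⟩ := h3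
  refine alternatingGroup_le_of_isPreprimitive_of_isThreeCycle_mem ?_ hg3 hg
  apply MulAction.isPreprimitive_of_is_two_pretransitive
  rw [MulAction.is_two_pretransitive_iff]
  intro a b c d h h'
  obtain ⟨g, hg, h1⟩ := h2 a b c d h h'
  exact ⟨⟨g, hg⟩, h1⟩

/-- In degree `2^k+1`, a Sylow 2-subgroup `Q` of the symmetric group fixes a point `z`, its even
part is transitive on the other points, and an overgroup of the even part fixes `z` or contains
the alternating group. -/
theorem sylow_pow_add_one {k : ℕ} (hk : 2 ≤ k) (hn : Fintype.card α = 2 ^ k + 1)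
    (Q : Sylow 2 (Perm α)) : ∃ z : α, (∀ g ∈ Q, g z = z) ∧
      (∀ a b, a ≠ z → b ≠ z → ∃ g ∈ Q, g ∈ alternatingGroup α ∧ g a = b) ∧
      ∀ M : Subgroup (Perm α), (∀ g ∈ Q, g ∈ alternatingGroup α → g ∈ M) →
        (∀ g ∈ M, g z = z) ∨ alternatingGroup α ≤ M := by
  obtain ⟨τ, hτ, h1, h2⟩ := exists_matching Q
  have hs : ∀ a, swap a (τ a) ∈ Q := fun a => h2 _ (swap_pair τ hτ.invol a)
  have h4 : 4 ≤ 2 ^ k := by
    calc 4 = 2 ^ 2 := rfl
      _ ≤ 2 ^ k := Nat.pow_le_pow_right (by norm_num) hk
  obtain ⟨z, hz⟩ := Q.isPGroup'.nonempty_fixed_point_of_prime_not_dvd_card α (by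
    rw [Nat.card_eq_fintype_card, hn]
    have : 2 ∣ 2 ^ k := dvd_pow_self 2 (by omega)
    omega)
  have hz' : ∀ g ∈ Q, g z = z := fun g hg => hz ⟨g, hg⟩
  have hτz : τ z = z := by simpa using hz' _ (hs z)
  have hmv : ∀ a, a ≠ z → τ a ≠ a := fun a ha h => ha (hτ.fix _ _ h hτz)
  have hi := hτ.invol
  have hinj := τ.injective
  -- transitivity of `Q`
  have htr : ∀ a b, a ≠ z → b ≠ z → ∃ g ∈ Q, g a = b := by
    obtain ⟨c, hc⟩ := (exists_with_cycleType_iff α (m := {2 ^ k})).2 ⟨by simp; omega, by simp; omega⟩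
    have hc1 : orderOf c = 2 ^ k := by rw [← lcm_cycleType, hc]; simp
    have hc2 : IsPGroup 2 (Subgroup.zpowers c) := IsPGroup.of_card (by rw [Nat.card_zpowers, hc1])
    obtain ⟨Q', hQ'⟩ := hc2.exists_le_sylow
    obtain ⟨g, hg⟩ := MulAction.exists_smul_eq (Perm α) Q' Q
    have hc3 : g * c * g⁻¹ ∈ Q := by
      rw [← hg]; exact ⟨c, hQ' (Subgroup.mem_zpowers c), rfl⟩
    have hc4 : (g * c * g⁻¹).cycleType = {2 ^ k} := by rw [cycleType_conj, hc]
    set c' := g * c * g⁻¹
    have hc5 : c'.IsCycle := card_cycleType_eq_one.1 (by rw [hc4]; simp)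
    have hc6 : c'.support = Finset.univ.erase z := by
      apply Finset.eq_of_subset_of_card_le
      · intro x hx
        rw [mem_support] at hx
        exact Finset.mem_erase.2 ⟨fun h => hx (h ▸ hz' _ hc3), Finset.mem_univ _⟩
      · rw [← sum_cycleType, hc4, Finset.card_erase_of_mem (Finset.mem_univ _), Finset.card_univ]
        simp; omega
    intro a b ha hb
    obtain ⟨i, hi⟩ := hc5.exists_pow_eq (x := a) (y := b)
      (mem_support.1 (by rw [hc6]; simp [ha])) (mem_support.1 (by rw [hc6]; simp [hb]))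
    exact ⟨_, Q.pow_mem hc3 i, hi⟩
  have htr' : ∀ a b, a ≠ z → b ≠ z → ∃ g ∈ Q, g ∈ alternatingGroup α ∧ g a = b := by
    intro a b ha hb
    obtain ⟨g, hg, hg'⟩ := htr a b ha hb
    by_cases h5 : g ∈ alternatingGroup α
    · exact ⟨g, hg, h5, hg'⟩
    · obtain ⟨d, hd⟩ := exists_not_mem_list [z, b, τ b] (by simp; omega)
      simp only [List.mem_cons, List.not_mem_nil, or_false, not_or] at hd
      have hd' := hmv d hd.1
      refine ⟨swap d (τ d) * g, Q.mul_mem (hs d) hg, ?_, ?_⟩
      · rw [mem_alternatingGroup] at h5 ⊢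
        rw [map_mul, sign_swap hd'.symm, (Int.units_eq_one_or _).resolve_left h5]; simp
      · rw [Perm.mul_apply, hg', swap_apply_of_ne_of_ne (Ne.symm hd.2.1)
          (fun h => hd.2.2 (by rw [h, hi]))]
  refine ⟨z, hz', htr', fun M hM => ?_⟩
  by_cases hMz : ∀ g ∈ M, g z = z
  · exact Or.inl hMz
  right
  push Not at hMz
  obtain ⟨m, hm, hmz⟩ := hMz
  have t1 : ∀ a, ∃ g ∈ M, g z = a := by
    intro a
    by_cases ha : a = z
    · exact ⟨1, M.one_mem, ha.symm⟩
    · obtain ⟨g, hg, hg', h5⟩ := htr' _ _ hmz ha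
      exact ⟨g * m, M.mul_mem (hM g hg hg') hm, h5⟩
  have t2 : ∀ a b c d : α, a ≠ b → c ≠ d → ∃ g ∈ M, g a = c ∧ g b = d := by
    intro a b c d hab hcd
    obtain ⟨g, hg, hga⟩ := t1 a
    obtain ⟨h, hh, hhc⟩ := t1 c
    obtain ⟨r, hr, hr', h5⟩ := htr' (g⁻¹ b) (h⁻¹ d)
      (fun e => hab (by rw [← hga, ← e]; simp)) (fun e => hcd (by rw [← hhc, ← e]; simp))
    refine ⟨h * r * g⁻¹, M.mul_mem (M.mul_mem hh (hM r hr hr')) (M.inv_mem hg), ?_, ?_⟩
    · rw [← hga]; simp [hz' r hr, hhc]
    · rw [Perm.mul_apply, Perm.mul_apply, h5]; simp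
  refine alt_le_of_two_trans t2 ?_
  have hdt : ∀ a b, a ≠ z → b ≠ z → swap a (τ a) * swap b (τ b) ∈ M := fun a b ha hb =>
    hM _ (Q.mul_mem (hs a) (hs b)) (dt_mem_alt (hmv a ha).symm (hmv b hb).symm)
  obtain ⟨a, ha⟩ := exists_not_mem_list [z] (by simp; omega)
  obtain ⟨b, hb⟩ := exists_not_mem_list [z, a, τ a] (by simp; omega)
  simp only [List.mem_cons, List.not_mem_nil, or_false, not_or] at ha hb
  have ha' := hmv a ha
  have hb' := hmv b hb.1
  obtain ⟨g, hg, hg1, hg2⟩ := t2 a (τ a) z a ha'.symm (Ne.symm ha)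
  have hv : swap z a * swap (g b) (g (τ b)) ∈ M := by
    have e1 : swap z a = swap (g a) (g (τ a)) := by rw [hg1, hg2]
    rw [e1, swap_apply_apply g b, swap_apply_apply]
    convert M.mul_mem (M.mul_mem hg (hdt a b ha hb.1)) (M.inv_mem hg) using 1
    group
  have hnd : [z, a, g b, g (τ b)].Nodup := by
    have : [a, τ a, b, τ b].Nodup := by clear * - ha' hb hb' hi; grind
    have := this.map g.injective
    simpa only [List.map_cons, List.map_nil, hg1, hg2] using this
  generalize g b = c at hv hnd
  generalize g (τ b) = d at hv hnd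
  clear hg hg1 hg2 g hb hb' b
  have hv' : swap c d * swap z a ∈ M := by
    rwa [(disjoint_swap_swap hnd).commute.eq] at hv
  simp only [List.mem_cons, List.not_mem_nil, or_false, not_or, List.nodup_cons,
    not_false_eq_true, List.nodup_nil, and_true] at hnd
  have hc' := hmv c (Ne.symm hnd.1.2.1)
  have hd' := hmv d (Ne.symm hnd.1.2.2)
  have ia := hi a
  have ic := hi c
  have id := hi d
  by_cases h5 : k = 2
  · subst h5
    obtain ⟨e, he⟩ := exists_not_mem_list [z, a, c, d] (by simp; omega)
    simp only [List.mem_cons, List.not_mem_nil, or_false, not_or] at he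
    have he' := hmv e he.1
    have ie := hi e
    have hall : ∀ x, x = z ∨ x = a ∨ x = c ∨ x = d ∨ x = e := by
      intro x
      by_contra hx
      have h9 : [z, a, c, d, e, x].Nodup := by clear * - hnd he hx; grind
      have := h9.length_le_card
      simp at this; omega
    have hw : swap a e * swap c d ∈ M := by
      by_cases h6 : τ a = e
      · have h7 : τ c = d := by
          have := hall (τ c)
          clear * - this h6 ia ic ie hτz hnd he hc'
          grind
        have := hdt a c ha (Ne.symm hnd.1.2.1)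
        rwa [h6, h7] at this
      · obtain ⟨q, hq, hq', hqa⟩ := htr' a e ha he.1
        have q1 := h1 q hq a
        have q1' := h1 q hq e
        have q2 := hz' q hq
        have q3 := q.injective
        have t1 := hall (τ a)
        have t2 := hall (τ e)
        have t3 := hall (q e)
        have h7 : q e = a := by
          by_contra h8
          have h9 : q = swap a (τ e) * swap a (τ a) * swap a e := by
            have u1 : q e = τ a := by
              clear * - t1 t2 t3 q1 q2 q3 hqa h6 h8 ia ic id ie hτz hnd he ha' hc' hd' he'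
              grind
            ext x
            have u2 : x = z ∨ x = a ∨ x = τ a ∨ x = e ∨ x = τ e := by
              have := hall x
              clear * - this t1 t2 h6 ia ic id ie hτz hnd he ha' hc' hd' he'
              grind
            simp only [Perm.mul_apply, swap_apply_def]
            clear * - u1 u2 q1 q1' q2 hqa h6 ia ie hτz hnd he ha' he'
            rcases u2 with h | h | h | h | h <;> rw [h] <;> grind
          rw [mem_alternatingGroup, h9] at hq'
          have s1 : a ≠ τ e := fun h => h6 (by rw [h, ie])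
          have s2 : a ≠ e := Ne.symm he.2.1
          simp [ha'.symm, s1, s2] at hq'
        convert hM q hq hq'
        ext x
        have := hall x
        simp only [Perm.mul_apply, swap_apply_def]
        clear * - this t1 t2 t3 q1 q1' q2 q3 hqa h6 h7 ia ic id ie hτz hnd he ha' hc' hd' he'
        grind
    refine ⟨swap a z * swap a e, ?_, isThreeCycle_swap_mul_swap_same ha (Ne.symm he.2.1)
      (Ne.symm he.1)⟩
    have c1 : Commute (swap c d) (swap a e) :=
      (disjoint_swap_swap (by clear * - hnd he; grind)).commute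
    convert M.mul_mem hv hw using 1
    rw [swap_comm a z, ← c1.eq]
    simp [mul_assoc]
  · have h8 : 8 ≤ 2 ^ k := by
      calc 8 = 2 ^ 3 := rfl
        _ ≤ 2 ^ k := Nat.pow_le_pow_right (by norm_num) (by omega)
    obtain ⟨e, he⟩ := exists_not_mem_list [z, a, c, d, τ a, τ c, τ d] (by simp; omega)
    simp only [List.mem_cons, List.not_mem_nil, or_false, not_or] at he
    have he' := hmv e he.1
    have ie := hi e
    have w1 := hdt d e (Ne.symm hnd.1.2.2) he.1
    have w2 := hdt c e (Ne.symm hnd.1.2.1) he.1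
    have w3 := hdt a e ha he.1
    clear * - he he' ie w1 w2 w3 hv hv' ia ic id hτz hnd ha' hc' hd'
    by_cases h6 : τ a = c
    · rw [swap_comm c d] at hv'
      refine three_of_meet ?_ hv' w1
      simp only [List.mem_cons, List.not_mem_nil, or_false, not_or, List.nodup_cons,
        not_false_eq_true, List.nodup_nil, and_true]
      clear w1 w2 w3 hv hv'
      grind
    by_cases h7 : τ a = d
    · refine three_of_meet ?_ hv' w2
      simp only [List.mem_cons, List.not_mem_nil, or_false, not_or, List.nodup_cons,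
        not_false_eq_true, List.nodup_nil, and_true]
      clear w1 w2 w3 hv hv'
      grind
    · rw [swap_comm z a] at hv
      refine three_of_meet ?_ hv w3
      simp only [List.mem_cons, List.not_mem_nil, or_false, not_or, List.nodup_cons,
        not_false_eq_true, List.nodup_nil, and_true]
      clear w1 w2 w3 hv hv'
      grind

end Cfsg.Agent.H64
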