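import Mathlib

/-! Sylow 2-subgroups of symmetric groups: the invariant matching, self-normalisation. -/

set_option autoImplicit false

namespace Cfsg.Agent.H64

open Equiv Equiv.Perm

universe u

section
variable {α : Type*}

/-- An involution with at most one fixed point. -/
structure IsMatching (τ : Perm α) : Prop where
  invol : ∀ a, τ (τ a) = a
  fix : ∀ a b, τ a = a → τ b = b → a = b

/-- The permutations fixing every pair `{a, τ a}`. -/
def pairKer (τ : Perm α) (h : ∀ a, τ (τ a) = a) : Subgroup (Perm α) where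
  carrier := {g | ∀ a, g a = a ∨ g a = τ a}
  one_mem' := fun _ => Or.inl rfl
  mul_mem' := by
    intro g k hg hk a
    rw [Perm.mul_apply]
    rcases hk a with h1 | h1
    · rw [h1]; exact hg a
    · rw [h1]
      rcases hg (τ a) with h2 | h2
      · exact Or.inr h2
      · exact Or.inl (h2.trans (h a))
  inv_mem' := by
    intro g hg a
    rcases hg (g⁻¹ a) with h1 | h1
    · left; simpa using h1.symm
    · right
      have h2 : a = τ (g⁻¹ a) := by simpa using h1
      conv_rhs => rw [h2, h]

theorem pairKer_sq (τ : Perm α) (h : ∀ a, τ (τ a) = a) (g : Perm α)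
    (hg : ∀ a, g a = a ∨ g a = τ a) : g * g = 1 := by
  ext a
  simp only [Perm.mul_apply, Perm.one_apply]
  rcases hg a with h1 | h1
  · rw [h1, h1]
  · rcases hg (τ a) with h2 | h2
    · have : a = τ a := g.injective (h1.trans h2.symm)
      rw [h1, h2, ← this]
    · rw [h1, h2, h]

theorem pairKer_isPGroup (τ : Perm α) (h : ∀ a, τ (τ a) = a) : IsPGroup 2 (pairKer τ h) := by
  intro g
  refine ⟨1, Subtype.ext ?_⟩
  have := pairKer_sq τ h g g.2
  simpa [pow_two] using this

theorem exists_isMatching (α : Type*) [Finite α] : ∃ τ : Perm α, IsMatching τ := by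
  obtain ⟨n, ⟨e⟩⟩ := Finite.exists_equiv_fin α
  refine ⟨e.trans (Fin.revPerm.trans e.symm), ⟨fun a => by simp, fun a b ha hb => ?_⟩⟩
  simp only [trans_apply, Fin.revPerm_apply, symm_apply_eq] at ha hb
  apply e.injective
  have h1 := congrArg Fin.val ha
  have h2 := congrArg Fin.val hb
  rw [Fin.val_rev] at h1 h2
  have := (e a).2
  have := (e b).2
  ext; omega

variable [DecidableEq α]

theorem swap_pair (τ : Perm α) (h : ∀ a, τ (τ a) = a) (a : α) :
    ∀ x, swap a (τ a) x = x ∨ swap a (τ a) x = τ x := by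
  intro x
  by_cases h1 : x = a
  · subst h1; right; simp
  by_cases h2 : x = τ a
  · subst h2; right; simp [h]
  · left; exact swap_apply_of_ne_of_ne h1 h2

variable [Fintype α]

theorem threeCycle_not_mem_of_isPGroup {P : Subgroup (Perm α)} (hP : IsPGroup 2 P) {g : Perm α}
    (hg : g.IsThreeCycle) : g ∉ P := by
  intro hm
  obtain ⟨k, hk⟩ := hP ⟨g, hm⟩
  have h1 : g ^ 2 ^ k = 1 := congrArg Subtype.val hk
  have h2 := orderOf_dvd_of_pow_eq_one h1
  rw [hg.orderOf] at h2
  have := (Nat.prime_three.dvd_of_dvd_pow h2)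
  omega

theorem swap_unique {P : Subgroup (Perm α)} (hP : IsPGroup 2 P) {a b c : α} (hb : a ≠ b)
    (hc : a ≠ c) (h1 : swap a b ∈ P) (h2 : swap a c ∈ P) : b = c := by
  by_contra hbc
  exact threeCycle_not_mem_of_isPGroup hP (isThreeCycle_swap_mul_swap_same hb hc hbc)
    (P.mul_mem h1 h2)

/-- A Sylow 2-subgroup of a finite symmetric group commutes with a matching involution, and
contains every permutation fixing all pairs of the matching. -/
theorem exists_matching (P : Sylow 2 (Perm α)) : ∃ τ : Perm α, IsMatching τ ∧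
    (∀ g ∈ P, ∀ a, g (τ a) = τ (g a)) ∧
    (∀ g : Perm α, (∀ a, g a = a ∨ g a = τ a) → g ∈ P) := by
  obtain ⟨τ₀, h₀⟩ := exists_isMatching α
  obtain ⟨Q, hQ⟩ := (pairKer_isPGroup τ₀ h₀.invol).exists_le_sylow
  obtain ⟨k, hk⟩ := MulAction.exists_smul_eq (Perm α) Q P
  have hm : IsMatching (k * τ₀ * k⁻¹) := ⟨fun a => by simp [h₀.invol], fun a b ha hb => by
    apply k⁻¹.injective
    apply h₀.fix
    · apply k.injective; simpa using ha
    · apply k.injective; simpa using hb⟩
  have hK : ∀ g : Perm α, (∀ a, g a = a ∨ g a = (k * τ₀ * k⁻¹) a) → g ∈ P := by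
    intro g hg
    have h1 : k⁻¹ * g * k ∈ Q := hQ (fun a => by
      rcases hg (k a) with h | h
      · left; simp [h]
      · right; simp [h])
    rw [← hk]
    refine ⟨_, h1, ?_⟩
    simp [mul_assoc]
  refine ⟨k * τ₀ * k⁻¹, hm, ?_, hK⟩
  set τ := k * τ₀ * k⁻¹
  have hs : ∀ a, swap a (τ a) ∈ P := fun a => hK _ (swap_pair τ hm.invol a)
  have key : ∀ g ∈ P, ∀ a, τ a ≠ a → g (τ a) = τ (g a) := by
    intro g hg a ha
    have h1 : swap (g a) (g (τ a)) ∈ P := by
      rw [swap_apply_apply]; exact P.mul_mem (P.mul_mem hg (hs a)) (P.inv_mem hg)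
    have h2 : g a ≠ g (τ a) := fun h => ha (g.injective h).symm
    by_cases h3 : τ (g a) = g a
    · exfalso
      have h4 : τ (g (τ a)) ≠ g (τ a) := fun h => h2 (hm.fix _ _ h3 h)
      have h5 := swap_unique P.isPGroup' h2.symm h4.symm (by rw [swap_comm]; exact h1) (hs _)
      apply h2
      rw [← h3, h5, hm.invol]
    · exact swap_unique P.isPGroup' h2 (Ne.symm h3) h1 (hs _)
  intro g hg a
  by_cases ha : τ a = a
  · by_contra h
    have h3 : τ (g a) ≠ g a := by rw [ha] at h; exact Ne.symm h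
    have h4 := key g⁻¹ (P.inv_mem hg) (g a) h3
    have h5 : g⁻¹ (g a) = a := by simp
    rw [h5, ha] at h4
    apply h3
    apply g⁻¹.injective
    rw [h4, h5]
  · exact key g hg a ha

theorem mem_cycleFactors_matching {τ : Perm α} (h : ∀ a, τ (τ a) = a) (c : Perm α) :
    c ∈ τ.cycleFactorsFinset ↔ ∃ a, τ a ≠ a ∧ c = swap a (τ a) := by
  rw [mem_cycleFactorsFinset_iff]
  constructor
  · rintro ⟨hc, h1⟩
    obtain ⟨a, ha, -⟩ := id hc
    have h2 := h1 a (mem_support.2 ha)
    have h3 := h1 (c a) (by rw [apply_mem_support]; exact mem_support.2 ha)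
    refine ⟨a, h2 ▸ ha, ?_⟩
    rw [← h2]
    exact hc.eq_swap_of_apply_apply_eq_self ha (by rw [h3, h2, h])
  · rintro ⟨a, ha, rfl⟩
    refine ⟨isCycle_swap ha.symm, fun x hx => ?_⟩
    rcases swap_pair τ h a x with h1 | h1
    · exact absurd h1 (mem_support.1 hx)
    · exact h1

theorem toPermHom_surjective {τ : Perm α} (h : ∀ a, τ (τ a) = a) :
    Function.Surjective (OnCycleFactors.toPermHom τ) := by
  intro σ
  have : σ ∈ (OnCycleFactors.toPermHom τ).range := by
    rw [OnCycleFactors.mem_range_toPermHom_iff]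
    intro c
    obtain ⟨a, ha, h1⟩ := (mem_cycleFactors_matching h _).1 c.2
    obtain ⟨b, hb, h2⟩ := (mem_cycleFactors_matching h _).1 (σ c).2
    rw [h1, h2, card_support_swap ha.symm, card_support_swap hb.symm]
  exact this

theorem two_mul_card_cycleFactors_le (τ : Perm α) :
    2 * Fintype.card τ.cycleFactorsFinset ≤ Fintype.card α := by
  have h1 := τ.sum_cycleType_le
  have h2 : Multiset.card τ.cycleType = Fintype.card τ.cycleFactorsFinset := by
    rw [cycleType_def]; simp
  have h3 := Multiset.card_nsmul_le_sum (s := τ.cycleType) (a := 2)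
    (fun n hn => two_le_of_mem_cycleType hn)
  rw [h2, smul_eq_mul] at h3
  omega

theorem pair_of_toPermHom_eq_one {τ : Perm α} (hτ : IsMatching τ)
    (x : Subgroup.centralizer ({τ} : Set (Perm α))) (hx : OnCycleFactors.toPermHom τ x = 1) :
    ∀ a, (x : Perm α) a = a ∨ (x : Perm α) a = τ a := by
  have h1 := (OnCycleFactors.mem_ker_toPermHom_iff τ x).1 hx
  have h2 : τ * x = x * τ := Subgroup.mem_centralizer_singleton_iff.1 x.2 |>.symm
  intro a
  by_cases ha : τ a = a
  · left
    apply hτ.fix _ _ _ ha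
    have := congrArg (fun f : Perm α => f a) h2
    simpa [ha] using this
  · have h3 := h1 _ ((mem_cycleFactors_matching hτ.invol _).2 ⟨a, ha, rfl⟩)
    have h4 := congrArg (fun f : Perm α => f a) h3.eq
    simp only [Perm.mul_apply, swap_apply_left] at h4
    by_contra hne
    push Not at hne
    rw [swap_apply_of_ne_of_ne hne.1 hne.2] at h4
    exact ha ((x : Perm α).injective h4)

end

theorem eq_one_of_odd_of_mem_pgroup {G : Type*} [Group G] {P : Subgroup G} (hP : IsPGroup 2 P)
    {x : G} (hx : x ∈ P) (ho : Odd (orderOf x)) : x = 1 := by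
  obtain ⟨k, hk⟩ := hP ⟨x, hx⟩
  have h1 : x ^ 2 ^ k = 1 := congrArg Subtype.val hk
  have h2 := orderOf_dvd_of_pow_eq_one h1
  have h3 : (orderOf x).Coprime (2 ^ k) := (Nat.coprime_two_right.2 ho).pow_right k
  exact orderOf_eq_one_iff.1 (Nat.Coprime.eq_one_of_dvd h3 h2)

/-- If no nontrivial element of odd order normalises the Sylow 2-subgroup `P`, then `P` is its own
normaliser. -/
theorem normalizer_le_of_odd {G : Type*} [Group G] [Finite G] (P : Sylow 2 G)
    (h : ∀ x ∈ Subgroup.normalizer (P : Set G), Odd (orderOf x) → x = 1) :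
    Subgroup.normalizer (P : Set G) ≤ P := by
  have h1 : IsPGroup 2 (Subgroup.normalizer (P : Set G)) := by
    rw [IsPGroup.iff_card]
    refine ⟨_, Nat.eq_prime_pow_of_unique_prime_dvd Nat.card_pos.ne' ?_⟩
    intro d hd hdv
    by_contra hd2
    have : Fact d.Prime := ⟨hd⟩
    obtain ⟨x, hx⟩ := exists_prime_orderOf_dvd_card' d hdv
    have h2 : orderOf (x : G) = d := by rw [← hx]; exact Subgroup.orderOf_coe x
    have h3 := h x x.2 (by rw [h2]; exact hd.odd_of_ne_two hd2)
    rw [h3, orderOf_one] at h2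
    exact hd.one_lt.ne h2
  exact (P.is_maximal' h1 Subgroup.le_normalizer).le

theorem perm_sylow_odd_aux (n : ℕ) : ∀ (α : Type u) [Fintype α] [DecidableEq α],
    Fintype.card α = n → ∀ (P : Sylow 2 (Perm α)),
      ∀ x ∈ Subgroup.normalizer (P : Set (Perm α)), Odd (orderOf x) → x = 1 := by
  induction n using Nat.strong_induction_on with
  | _ n ih =>
  intro α _ _ hn P x hx ho
  rcases Nat.eq_zero_or_pos n with h0 | h0
  · have : IsEmpty α := Fintype.card_eq_zero_iff.1 (hn.trans h0)
    exact Subsingleton.elim _ _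
  obtain ⟨τ, hτ, h1, h2⟩ := exists_matching P
  have hs : ∀ a, swap a (τ a) ∈ P := fun a => h2 _ (swap_pair τ hτ.invol a)
  have hPC : (P : Subgroup (Perm α)) ≤ Subgroup.centralizer ({τ} : Set (Perm α)) := by
    intro g hg
    rw [Subgroup.mem_centralizer_singleton_iff]
    ext a
    exact h1 g hg a
  have key : ∀ y ∈ Subgroup.normalizer (P : Set (Perm α)), ∀ a, τ a ≠ a → y (τ a) = τ (y a) := by
    intro g hg a ha
    have h1 : swap (g a) (g (τ a)) ∈ P := by
      rw [swap_apply_apply]; exact (Subgroup.mem_set_normalizer_iff.1 hg _).1 (hs a)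
    have h2 : g a ≠ g (τ a) := fun h => ha (g.injective h).symm
    by_cases h3 : τ (g a) = g a
    · exfalso
      have h4 : τ (g (τ a)) ≠ g (τ a) := fun h => h2 (hτ.fix _ _ h3 h)
      have h5 := swap_unique P.isPGroup' h2.symm h4.symm (by rw [swap_comm]; exact h1) (hs _)
      apply h2
      rw [← h3, h5, hτ.invol]
    · exact swap_unique P.isPGroup' h2 (Ne.symm h3) h1 (hs _)
  have hxC : x ∈ Subgroup.centralizer ({τ} : Set (Perm α)) := by
    rw [Subgroup.mem_centralizer_singleton_iff]
    ext a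
    simp only [Perm.mul_apply]
    by_cases ha : τ a = a
    · by_contra h
      have h3 : τ (x a) ≠ x a := by rw [ha] at h; exact Ne.symm h
      have h4 := key x⁻¹ (Subgroup.inv_mem _ hx) (x a) h3
      have h5 : x⁻¹ (x a) = a := by simp
      rw [h5, ha] at h4
      apply h3
      apply x⁻¹.injective
      rw [h4, h5]
    · exact key x hx a ha
  have hsurj := toPermHom_surjective hτ.invol
  set φ := OnCycleFactors.toPermHom τ
  let Q : Sylow 2 (Perm τ.cycleFactorsFinset) := (P.subtype hPC).mapSurjective hsurj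
  have hlt : Fintype.card τ.cycleFactorsFinset < n := by
    have := two_mul_card_cycleFactors_le τ
    omega
  have hxQ : φ ⟨x, hxC⟩ ∈ Subgroup.normalizer (Q : Set (Perm τ.cycleFactorsFinset)) := by
    have h3 : (⟨x, hxC⟩ : Subgroup.centralizer ({τ} : Set (Perm α))) ∈
        Subgroup.normalizer (SetLike.coe (P.subtype hPC).toSubgroup) := by
      rw [Subgroup.mem_normalizer_iff]
      intro h
      exact Subgroup.mem_set_normalizer_iff.1 hx h
    exact Subgroup.le_normalizer_map φ ⟨_, h3, rfl⟩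
  have hodd : Odd (orderOf (φ ⟨x, hxC⟩)) := by
    refine Odd.of_dvd_nat ho ?_
    rw [← Subgroup.orderOf_mk x hxC]
    exact orderOf_map_dvd φ _
  have h5 := ih _ hlt τ.cycleFactorsFinset rfl Q _ hxQ hodd
  exact eq_one_of_odd_of_mem_pgroup P.isPGroup' (h2 x (pair_of_toPermHom_eq_one hτ _ h5)) ho

/-- Sylow 2-subgroups of finite symmetric groups are self-normalising. -/
theorem perm_sylow_normalizer_le {α : Type*} [Fintype α] [DecidableEq α] (P : Sylow 2 (Perm α)) :
    Subgroup.normalizer (P : Set (Perm α)) ≤ P :=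
  normalizer_le_of_odd P (perm_sylow_odd_aux _ α rfl P)

end Cfsg.Agent.H64
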